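import Groth.Agent.H23QsChow.Model
import Mathlib.Algebra.Algebra.Subalgebra.Basic
import Mathlib.LinearAlgebra.Basis.Basic
import Mathlib.Algebra.Ring.Parity

/-!
# The fixed subalgebra of the involution
-/

set_option autoImplicit false
set_option linter.unusedSectionVars false

noncomputable section

open MvPolynomial QsChow

namespace Groth.Agent.H23QsChow

variable {n : ℕ} (hn : 2 ≤ n)

/-- The hypotheses on the involution. -/
structure IsTau (τ : P n →ₐ[ZMod 2] P n) : Prop where
  one : τ (eps n 1) = eps n 1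
  other : ∀ j : ℕ, 2 ≤ j → j ≤ numVars n → τ (eps n j) = eps n j + eps n 1 ^ (2 * j - 3)

/-- The invariant companion of a basis element. -/
def M (a : Fin (numVars n) → ℕ) : P n := eps n 1 ^ a (i0 hn) * uu n ^ (a (i1 hn) / 2) * G a

theorem N_of_even {a : Fin (numVars n) → ℕ} (h : ¬Odd (a (i1 hn))) : N hn a = M hn a := by
  rw [Nat.not_odd_iff] at h
  rw [N, M, w, h, pow_zero, mul_one]

theorem N_of_odd {a : Fin (numVars n) → ℕ} (h : Odd (a (i1 hn))) : N hn a = eps n 2 * M hn a := by
  rw [Nat.odd_iff] at h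
  rw [N, M, w, h, pow_one]
  ring

/-- The basis. -/
def basisN : Module.Basis (Box n) (ZMod 2) (P n) := Module.Basis.mk (linearIndependent_N hn) (span_N hn).ge

theorem basisN_apply (b : Box n) : basisN hn b = N hn b.val := Module.Basis.mk_apply _ _ b

/-- A linear map prescribed on the basis. -/
def onBasis (f : (Fin (numVars n) → ℕ) → P n) : P n →ₗ[ZMod 2] P n :=
  (basisN hn).constr (ZMod 2) fun b => f b.val

theorem onBasis_N (f : (Fin (numVars n) → ℕ) → P n) {a : Fin (numVars n) → ℕ} (ha : InBox n a) :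
    onBasis hn f (N hn a) = f a := by
  have : basisN hn (fun i => ⟨a i, ha i⟩) = N hn a := basisN_apply hn _
  rw [onBasis, ← this, Module.Basis.constr_basis]
  rfl

theorem linearMap_eq {f g : P n →ₗ[ZMod 2] P n} (h : ∀ a, InBox n a → f (N hn a) = g (N hn a)) (z : P n) :
    f z = g z :=
  LinearMap.congr_fun ((basisN hn).ext fun b => by rw [basisN_apply]; exact h _ b.inBox) z

/-- Projection onto the even part. -/
def evenPart : P n →ₗ[ZMod 2] P n := onBasis hn fun a => if Odd (a (i1 hn)) then 0 else M hn a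

/-- The invariant cofactor of the odd part. -/
def oddPart : P n →ₗ[ZMod 2] P n := onBasis hn fun a => if Odd (a (i1 hn)) then M hn a else 0

/-- The part of top degree in the first coordinate. -/
def topPart : P n →ₗ[ZMod 2] P n := onBasis hn fun a => if a (i0 hn) + 1 < n then 0 else N hn a

/-- A partial inverse to multiplication by the first coordinate. -/
def lower : P n →ₗ[ZMod 2] P n :=
  onBasis hn fun a => if a (i0 hn) = 0 then 0 else N hn (Function.update a (i0 hn) (a (i0 hn) - 1))

theorem split (z : P n) : z = evenPart hn z + eps n 2 * oddPart hn z := by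
  have := linearMap_eq hn (f := LinearMap.id)
    (g := evenPart hn + (LinearMap.mulLeft (ZMod 2) (eps n 2)).comp (oddPart hn)) (fun a ha => ?_) z
  · simpa using this
  · simp only [LinearMap.id_apply, LinearMap.add_apply, LinearMap.comp_apply, LinearMap.mulLeft_apply,
      evenPart, oddPart, onBasis_N hn _ ha]
    split
    · rw [zero_add, N_of_odd hn ‹_›]
    · rw [mul_zero, add_zero, N_of_even hn ‹_›]

theorem exists_N_eq_M {a : Fin (numVars n) → ℕ} (ha : InBox n a) :
    ∃ a', InBox n a' ∧ ¬Odd (a' (i1 hn)) ∧ a' (i0 hn) = a (i0 hn) ∧ N hn a' = M hn a := by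
  refine ⟨Function.update a (i1 hn) (2 * (a (i1 hn) / 2)), ha.update ?_, ?_, ?_, ?_⟩
  · have := ha (i1 hn); omega
  · rw [Function.update_self]; simp [parity_simps]
  · rw [Function.update_of_ne (i0_ne_i1 hn)]
  · rw [N_update1, w, M, show 2 * (a (i1 hn) / 2) / 2 = a (i1 hn) / 2 by omega,
      show 2 * (a (i1 hn) / 2) % 2 = 0 by omega, pow_zero, mul_one]

theorem eps_one_mul_N {a : Fin (numVars n) → ℕ} (ha : InBox n a) :
    (∃ a', InBox n a' ∧ a' (i1 hn) = a (i1 hn) ∧ eps n 1 * N hn a = N hn a') ∨ eps n 1 * N hn a = 0 := by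
  have h : eps n 1 * N hn a = eps n 1 ^ (a (i0 hn) + 1) * w n (a (i1 hn)) * G a := by rw [N, pow_succ]; ring
  by_cases hc : a (i0 hn) + 1 < n
  · exact .inl ⟨_, ha.update (c := a (i0 hn) + 1) (by rwa [bound_i0]),
      Function.update_of_ne (i0_ne_i1 hn).symm _ _, by rw [h, N_update0]⟩
  · exact .inr (by rw [h, eps_one_pow hn (by omega), zero_mul, zero_mul])

theorem evenPart_eps_one_mul (z : P n) : evenPart hn (eps n 1 * z) = eps n 1 * evenPart hn z := by
  refine linearMap_eq hn (f := (evenPart hn).comp (LinearMap.mulLeft (ZMod 2) (eps n 1)))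
    (g := (LinearMap.mulLeft (ZMod 2) (eps n 1)).comp (evenPart hn)) (fun a ha => ?_) z
  simp only [LinearMap.comp_apply, LinearMap.mulLeft_apply, evenPart]
  rcases eps_one_mul_N hn ha with ⟨a', ha', h1, h⟩ | h
  · rw [h, onBasis_N hn _ ha', onBasis_N hn _ ha, h1]
    split_ifs with ho
    · rw [mul_zero]
    · rw [← N_of_even hn (by rwa [h1]), ← h, N_of_even hn ho]
  · rw [h, map_zero, onBasis_N hn _ ha]
    split_ifs with ho
    · rw [mul_zero]
    · rw [← N_of_even hn ho, h]

theorem evenPart_eps_one_pow_mul (m : ℕ) (z : P n) :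
    evenPart hn (eps n 1 ^ m * z) = eps n 1 ^ m * evenPart hn z := by
  induction m with
  | zero => rw [pow_zero, one_mul, one_mul]
  | succ m ih => rw [pow_succ', mul_assoc, evenPart_eps_one_mul, ih, mul_assoc]

theorem evenPart_M {a : Fin (numVars n) → ℕ} (ha : InBox n a) : evenPart hn (M hn a) = M hn a := by
  obtain ⟨a', ha', he, -, h⟩ := exists_N_eq_M hn ha
  rw [← h, evenPart, onBasis_N hn _ ha', if_neg he, N_of_even hn he]

theorem genImage_mem_range (o : Option (Fin (numVars n))) : genImage n o ∈ (phi n).range :=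
  (AlgHom.mem_range _).2 ⟨X o, aeval_X _ _⟩

theorem G_mem_range (a : Fin (numVars n) → ℕ) : G a ∈ (phi n).range :=
  Subalgebra.prod_mem _ fun i _ => Subalgebra.pow_mem _ (genImage_mem_range (some i)) _

theorem eps_one_eq_genImage : eps n 1 = genImage n (some (i0 hn)) := by simp [genImage]

theorem uu_eq_genImage : uu n = genImage n (some (i1 hn)) := by simp [genImage, uu]

theorem M_mem_range (a : Fin (numVars n) → ℕ) : M hn a ∈ (phi n).range :=
  Subalgebra.mul_mem _ (Subalgebra.mul_mem _
    (Subalgebra.pow_mem _ (eps_one_eq_genImage hn ▸ genImage_mem_range _) _)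
    (Subalgebra.pow_mem _ (uu_eq_genImage hn ▸ genImage_mem_range _) _))
    (G_mem_range a)

theorem evenPart_mem_range (z : P n) : evenPart hn z ∈ (phi n).range := by
  have hz : z ∈ V hn := by rw [V_eq_top hn]; trivial
  refine Submodule.span_induction (p := fun z _ => evenPart hn z ∈ (phi n).range) ?_ ?_ ?_ ?_ hz
  · rintro _ ⟨a, ha, rfl⟩
    rw [evenPart, onBasis_N hn _ ha]
    split
    · exact Subalgebra.zero_mem _
    · exact M_mem_range hn a
  · rw [map_zero]; exact Subalgebra.zero_mem _
  · intro x y _ _ hx hy; rw [map_add]; exact Subalgebra.add_mem _ hx hy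
  · intro c x _ hx; rw [map_smul]; exact Subalgebra.smul_mem _ hx c

variable {τ : P n →ₐ[ZMod 2] P n} (hτ : IsTau τ)

include hn hτ

theorem tau_two : τ (eps n 2) = eps n 2 + eps n 1 := by
  simpa using hτ.other 2 le_rfl (two_le_numVars hn)

theorem tau_genImage (o : Option (Fin (numVars n))) : τ (genImage n o) = genImage n o := by
  rcases o with _ | i
  · rw [genImage, map_mul, map_pow, hτ.one, tau_two hn hτ, mul_add, ← pow_succ, eps_one_pow hn (m := n - 1 + 1) (by omega), add_zero]
  · rw [genImage]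
    split_ifs with h0 h1
    · exact hτ.one
    · rw [map_add, map_mul, map_pow, hτ.one, tau_two hn hτ]
      linear_combination add_self_eq (eps n 1 * eps n 2) + add_self_eq (eps n 1 * eps n 1)
    · rw [map_add, map_mul, map_pow, hτ.one, tau_two hn hτ, hτ.other _ (by omega) i.2, mul_add, ← pow_succ,
        show 2 * (i.val + 1) - 4 + 1 = 2 * (i.val + 1) - 3 by omega]
      linear_combination add_self_eq (eps n 1 ^ (2 * (i.val + 1) - 3))

theorem tau_phi (q : FreeE n) : τ (phi n q) = phi n q := by
  have h : τ.comp (phi n) = phi n := MvPolynomial.algHom_ext fun o => by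
    rw [AlgHom.comp_apply, phi, aeval_X]
    exact tau_genImage hn hτ o
  exact AlgHom.congr_fun h q

theorem tau_evenPart (z : P n) : τ (evenPart hn z) = evenPart hn z := by
  obtain ⟨q, hq⟩ := evenPart_mem_range hn z
  rw [← hq]
  exact tau_phi hn hτ q

theorem tau_M (a : Fin (numVars n) → ℕ) : τ (M hn a) = M hn a := by
  obtain ⟨q, hq⟩ := M_mem_range hn a
  rw [← hq]
  exact tau_phi hn hτ q

theorem tau_oddPart (z : P n) : τ (oddPart hn z) = oddPart hn z := by
  refine linearMap_eq hn (f := τ.toLinearMap.comp (oddPart hn)) (g := oddPart hn) (fun a ha => ?_) z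
  simp only [LinearMap.comp_apply, AlgHom.toLinearMap_apply, oddPart, onBasis_N hn _ ha]
  split
  · exact tau_M hn hτ a
  · exact map_zero τ

theorem add_tau_eq (z : P n) : z + τ z = eps n 1 * oddPart hn z := by
  conv_lhs => rw [split hn z, map_add, map_mul, tau_two hn hτ, tau_evenPart hn hτ, tau_oddPart hn hτ]
  linear_combination add_self_eq (evenPart hn z) + add_self_eq (eps n 2 * oddPart hn z)

theorem fixed_iff (z : P n) : τ z = z ↔ eps n 1 * oddPart hn z = 0 := by
  rw [← add_tau_eq hn hτ z]
  exact ⟨fun h => by rw [h]; exact add_self_eq z, fun h => (eq_of_add_eq_zero h).symm⟩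

theorem evenPart_add_tau (z : P n) : evenPart hn (z + τ z) = z + τ z := by
  rw [add_tau_eq hn hτ z, evenPart_eps_one_mul]
  congr 1
  refine linearMap_eq hn (f := (evenPart hn).comp (oddPart hn)) (g := oddPart hn) (fun a ha => ?_) z
  simp only [LinearMap.comp_apply, oddPart, onBasis_N hn _ ha]
  split
  · exact evenPart_M hn ha
  · exact map_zero _

theorem range_add_tau :
    Set.range (fun y : P n => y + τ y) =
      (fun z : P n => eps n 1 * z) '' (AlgHom.equalizer τ (AlgHom.id (ZMod 2) (P n)) : Set (P n)) := by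
  ext p
  constructor
  · rintro ⟨y, rfl⟩
    exact ⟨oddPart hn y, tau_oddPart hn hτ y, (add_tau_eq hn hτ y).symm⟩
  · rintro ⟨z, hz, rfl⟩
    refine ⟨eps n 2 * evenPart hn z, ?_⟩
    have hz' : eps n 1 * oddPart hn z = 0 := (fixed_iff hn hτ z).1 hz
    simp only [map_mul, tau_two hn hτ, tau_evenPart hn hτ]
    conv_rhs => rw [split hn z]
    linear_combination add_self_eq (eps n 2 * evenPart hn z) - eps n 2 * hz'

theorem exists_fixed_multiple (m : ℕ) (y : P n) (hy : y + τ y ∈ Ideal.span ({eps n 1 ^ m} : Set (P n))) :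
    ∃ z : P n, τ z = z ∧ y + τ y = eps n 1 ^ m * z := by
  obtain ⟨z, hz⟩ := Ideal.mem_span_singleton.1 hy
  refine ⟨evenPart hn z, tau_evenPart hn hτ z, ?_⟩
  rw [← evenPart_eps_one_pow_mul, ← hz, evenPart_add_tau hn hτ]

theorem mem_range_of_fixed {z : P n} (hz : τ z = z) : z ∈ (phi n).range := by
  have hz' : eps n 1 * oddPart hn z = 0 := (fixed_iff hn hτ z).1 hz
  rw [split hn z]
  refine Subalgebra.add_mem _ (evenPart_mem_range hn z) ?_
  have htop : ∀ v, topPart hn v = v + lower hn (eps n 1 * v) := fun v => by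
    refine linearMap_eq hn (f := topPart hn)
      (g := LinearMap.id + (lower hn).comp (LinearMap.mulLeft (ZMod 2) (eps n 1))) (fun a ha => ?_) v
    simp only [LinearMap.add_apply, LinearMap.id_apply, LinearMap.comp_apply, LinearMap.mulLeft_apply, topPart,
      onBasis_N hn _ ha]
    have h : eps n 1 * N hn a = eps n 1 ^ (a (i0 hn) + 1) * w n (a (i1 hn)) * G a := by rw [N, pow_succ]; ring
    split_ifs with hc
    · have hu : InBox n (Function.update a (i0 hn) (a (i0 hn) + 1)) := ha.update (by rwa [bound_i0])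
      rw [h, ← N_update0, lower, onBasis_N hn _ hu, Function.update_self, if_neg (by omega), Function.update_idem,
        Nat.add_sub_cancel, Function.update_eq_self, add_self_eq]
    · rw [h, eps_one_pow hn (by omega), zero_mul, zero_mul, map_zero, add_zero]
  have key : oddPart hn z = topPart hn (oddPart hn z) := by rw [htop, hz', map_zero, add_zero]
  rw [key]
  have hmem : z ∈ V hn := by rw [V_eq_top hn]; trivial
  refine Submodule.span_induction (p := fun z _ => eps n 2 * topPart hn (oddPart hn z) ∈ (phi n).range) ?_ ?_ ?_ ?_ hmem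
  · rintro _ ⟨a, ha, rfl⟩
    rw [oddPart, onBasis_N hn _ ha]
    split
    · obtain ⟨a', ha', he, h0, h⟩ := exists_N_eq_M hn ha
      rw [← h, topPart, onBasis_N hn _ ha']
      split_ifs with hc
      · rw [mul_zero]; exact Subalgebra.zero_mem _
      · rw [h, M, show a (i0 hn) = n - 1 by have := ha (i0 hn); rw [bound_i0] at this; omega,
          show eps n 2 * (eps n 1 ^ (n - 1) * uu n ^ (a (i1 hn) / 2) * G a) =
            genImage n none * uu n ^ (a (i1 hn) / 2) * G a by rw [genImage]; ring]
        exact Subalgebra.mul_mem _ (Subalgebra.mul_mem _ (genImage_mem_range none)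
          (Subalgebra.pow_mem _ (uu_eq_genImage hn ▸ genImage_mem_range _) _))
          (G_mem_range a)
    · rw [map_zero, mul_zero]; exact Subalgebra.zero_mem _
  · rw [map_zero, map_zero, mul_zero]; exact Subalgebra.zero_mem _
  · intro x y _ _ hx hy; rw [map_add, map_add, mul_add]; exact Subalgebra.add_mem _ hx hy
  · intro c x _ hx; rw [map_smul, map_smul, mul_smul_comm]; exact Subalgebra.smul_mem _ hx c

theorem range_phi : (phi n).range = AlgHom.equalizer τ (AlgHom.id (ZMod 2) (P n)) := by
  ext z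
  constructor
  · rintro ⟨q, rfl⟩
    exact tau_phi hn hτ q
  · exact fun hz => mem_range_of_fixed hn hτ hz

theorem exists_fixed_mul_iff (m : ℕ) (q : FreeE n) :
    (∃ w : P n, τ w = w ∧ phi n q = eps n 1 ^ m * w) ↔
      q ∈ RingHom.ker (phi n) ⊔ Ideal.span {evar n 1 ^ m} := by
  have he : phi n (evar n 1) = eps n 1 := by
    rw [evar, dif_pos ⟨by omega, by unfold numVars; omega⟩, phi, aeval_X]
    exact (eps_one_eq_genImage hn).symm
  constructor
  · rintro ⟨w, hw, hq⟩
    obtain ⟨r, rfl⟩ := mem_range_of_fixed hn hτ hw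
    refine Submodule.mem_sup.2 ⟨q - evar n 1 ^ m * r, ?_, evar n 1 ^ m * r,
      Ideal.mul_mem_right _ _ (Ideal.mem_span_singleton_self _), sub_add_cancel _ _⟩
    rw [RingHom.mem_ker, map_sub, map_mul, map_pow, he, hq]
    exact sub_self _
  · intro hq
    obtain ⟨p, hp, r, hr, rfl⟩ := Submodule.mem_sup.1 hq
    obtain ⟨t, rfl⟩ := Ideal.mem_span_singleton.1 hr
    exact ⟨phi n t, tau_phi hn hτ t, by rw [map_add, RingHom.mem_ker.1 hp, zero_add, map_mul, map_pow, he]⟩

end Groth.Agent.H23QsChow
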