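import Groth.Agent.H23QsChow.Fixed

/-!
# The kernel of the map to the truncated algebra
-/

set_option autoImplicit false
set_option linter.unusedSectionVars false

noncomputable section

open MvPolynomial QsChow

namespace Groth.Agent.H23QsChow

variable {n : ℕ}

theorem evar_eq (i : Fin (numVars n)) : evar n (i.val + 1) = X (some i) := by
  rw [evar, dif_pos ⟨by omega, i.2⟩]
  rfl

theorem le_bound (n j : ℕ) (hj : 2 ≤ j) : n ≤ (2 * j - 3) * 2 ^ klog n j := le_mul_two_pow_klog n j hj

variable (hn : 2 ≤ n)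

theorem evar_one : evar n 1 = X (some (i0 hn)) := evar_eq (i0 hn)

theorem evar_two : evar n 2 = X (some (i1 hn)) := evar_eq (i1 hn)

include hn in
theorem phi_evar_one : phi n (evar n 1) = eps n 1 := by
  rw [evar_one hn, phi, aeval_X]
  exact (eps_one_eq_genImage hn).symm

include hn in
theorem phi_evar_two : phi n (evar n 2) = uu n := by
  rw [evar_two hn, phi, aeval_X]
  exact (uu_eq_genImage hn).symm

theorem phi_xvar : phi n (xvar n) = eps n 1 ^ (n - 1) * eps n 2 := by rw [xvar, phi, aeval_X]; rfl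

include hn in
theorem phi_sPoly (j : ℕ) :
    phi n (sPoly n j) = eps n 2 ^ 2 ^ klog n j + eps n 1 ^ (2 ^ klog n j - 1) * eps n 2 := by
  have : sPoly n j = Sp (klog n j) (evar n 1) (evar n 2) := rfl
  rw [this, map_Sp, phi_evar_one hn, phi_evar_two hn, ← Sp_telescope, uu]
  linear_combination -(add_self_eq (eps n 1 ^ (2 ^ klog n j - 1) * eps n 2))

include hn in
theorem sPoly_two_eq :
    sPoly n 2 = evar n 1 ^ 2 ^ (klog n 2 - 1) * Sp (klog n 2 - 1) (evar n 1) (evar n 2) +
      evar n 2 ^ 2 ^ (klog n 2 - 1) := by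
  have h : klog n 2 = klog n 2 - 1 + 1 := by have := one_le_klog_two hn; omega
  rw [show sPoly n 2 = Sp (klog n 2) (evar n 1) (evar n 2) from rfl]
  conv_lhs => rw [h]
  exact Sp_succ _ _ _

include hn in
theorem hrel_mem_ker (i : Fin (numVars n)) : phi n (hrel n (i.val + 1)) = 0 := by
  rw [hrel]
  split_ifs with h2 h3
  · rw [map_add, map_mul, map_pow, phi_evar_one hn, phi_xvar, phi_sPoly hn, eps_two_pow hn, zero_add,
      ← mul_assoc, ← pow_add, show 2 ^ klog n 2 - n + (n - 1) = 2 ^ klog n 2 - 1 by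
        have := le_two_pow_klog_two n; omega]
    exact add_self_eq _
  · have hk := le_bound n (i.val + 1) (by omega)
    have hi : 2 ≤ i.val := by omega
    rw [map_add, map_add, map_mul, map_mul, map_pow, map_pow, map_pow, phi_evar_one hn, phi_xvar, phi_sPoly hn,
      evar_eq, phi, aeval_X, ← bound_other hi, genImage_pow_bound i hi, bound_other hi,
      ← mul_assoc (eps n 1 ^ _) (eps n 1 ^ _), ← pow_add,
      show (2 * (i.val + 1) - 3) * 2 ^ klog n (i.val + 1) - n + (n - 1) =
        (2 * (i.val + 1) - 4) * 2 ^ klog n (i.val + 1) + (2 ^ klog n (i.val + 1) - 1) by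
        have := Nat.one_le_two_pow (n := klog n (i.val + 1))
        rw [show 2 * (i.val + 1) - 3 = 2 * (i.val + 1) - 4 + 1 by omega, add_mul, one_mul] at hk ⊢
        omega]
    rw [pow_add]
    linear_combination add_self_eq
      (eps n 1 ^ ((2 * (i.val + 1) - 4) * 2 ^ klog n (i.val + 1)) * eps n 2 ^ 2 ^ klog n (i.val + 1)) +
      add_self_eq (eps n 1 ^ ((2 * (i.val + 1) - 4) * 2 ^ klog n (i.val + 1)) * eps n 1 ^ (2 ^ klog n (i.val + 1) - 1) * eps n 2)
  · exact map_zero _

include hn in
theorem presIdeal_le_ker : presIdeal n ≤ RingHom.ker (phi n) := by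
  rw [presIdeal, Ideal.span_le]
  rintro p (hp | ⟨i, rfl⟩)
  · rcases hp with rfl | rfl | rfl
    · exact RingHom.mem_ker.2 (by rw [map_pow, phi_evar_one hn, eps_one_pow hn le_rfl])
    · refine RingHom.mem_ker.2 ?_
      rw [map_mul, phi_evar_one hn, phi_xvar, ← mul_assoc, ← pow_succ', eps_one_pow hn (by omega), zero_mul]
    · refine RingHom.mem_ker.2 ?_
      rw [map_pow, phi_xvar, mul_pow, ← pow_mul, eps_one_pow hn (by omega), zero_mul]
  · exact RingHom.mem_ker.2 (hrel_mem_ker hn i)

theorem hrel_mem (i : Fin (numVars n)) : hrel n (i.val + 1) ∈ presIdeal n :=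
  Ideal.subset_span (.inr ⟨i, rfl⟩)

theorem evar_one_pow_mem {m : ℕ} (hm : n ≤ m) : evar n 1 ^ m ∈ presIdeal n := by
  obtain ⟨c, rfl⟩ := Nat.exists_eq_add_of_le hm
  rw [pow_add]
  exact Ideal.mul_mem_right _ _ (Ideal.subset_span (.inl (.inl rfl)))

theorem evar_one_mul_xvar_mem : evar n 1 * xvar n ∈ presIdeal n :=
  Ideal.subset_span (.inl (.inr (.inl rfl)))

theorem xvar_sq_mem : xvar n ^ 2 ∈ presIdeal n := Ideal.subset_span (.inl (.inr (.inr rfl)))

/-- The product of the higher variables. -/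
def Gl (a : Fin (numVars n) → ℕ) : FreeE n :=
  ∏ i ∈ Finset.univ.filter (fun i : Fin (numVars n) => 2 ≤ i.val), X (some i) ^ a i

/-- The chosen preimage of a basis element. -/
def L (a : Fin (numVars n) → ℕ) : FreeE n :=
  if Odd (a (i1 hn)) then xvar n * evar n 2 ^ (a (i1 hn) / 2) * Gl a
  else evar n 1 ^ a (i0 hn) * evar n 2 ^ (a (i1 hn) / 2) * Gl a

/-- Indices of invariant basis elements. -/
def Good (a : Fin (numVars n) → ℕ) : Prop := InBox n a ∧ (Odd (a (i1 hn)) → a (i0 hn) + 1 = n)

theorem phi_Gl (a : Fin (numVars n) → ℕ) : phi n (Gl a) = G a := by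
  rw [Gl, map_prod, G]
  exact Finset.prod_congr rfl fun i _ => by rw [map_pow, phi, aeval_X]

theorem phi_L {a : Fin (numVars n) → ℕ} (ha : Good hn a) : phi n (L hn a) = N hn a := by
  rw [L]
  split_ifs with h
  · rw [N_of_odd hn h, M, show a (i0 hn) = n - 1 by have := ha.2 h; omega, map_mul, map_mul, map_pow, phi_xvar,
      phi_evar_two hn, phi_Gl]
    ring
  · rw [N_of_even hn h, M, map_mul, map_mul, map_pow, map_pow, phi_evar_one hn, phi_evar_two hn, phi_Gl]

/-- The span of the chosen preimages together with the relations. -/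
def W : Submodule (ZMod 2) (FreeE n) :=
  Submodule.span (ZMod 2) {z | ∃ a, Good hn a ∧ z = L hn a} ⊔ (presIdeal n).restrictScalars (ZMod 2)

theorem L_mem {a : Fin (numVars n) → ℕ} (ha : Good hn a) : L hn a ∈ W hn :=
  Submodule.mem_sup_left (Submodule.subset_span ⟨a, ha, rfl⟩)

theorem pres_mem {z : FreeE n} (hz : z ∈ presIdeal n) : z ∈ W hn := Submodule.mem_sup_right hz

theorem mul_mem_W_of_gen {p : FreeE n} (h : ∀ a, Good hn a → p * L hn a ∈ W hn) {z : FreeE n} (hz : z ∈ W hn) :
    p * z ∈ W hn := by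
  obtain ⟨u, hu, v, hv, rfl⟩ := Submodule.mem_sup.1 hz
  rw [mul_add]
  refine add_mem ?_ (pres_mem hn (Ideal.mul_mem_left _ p hv))
  refine Submodule.span_induction (p := fun z _ => p * z ∈ W hn) ?_ ?_ ?_ ?_ hu
  · rintro _ ⟨a, ha, rfl⟩; exact h a ha
  · rw [mul_zero]; exact zero_mem _
  · intro x y _ _ hx hy; rw [mul_add]; exact add_mem hx hy
  · intro c x _ hx; rw [mul_smul_comm]; exact Submodule.smul_mem _ c hx

theorem Gl_update_low (a : Fin (numVars n) → ℕ) {i : Fin (numVars n)} (hi : i.val < 2) (c : ℕ) :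
    Gl (Function.update a i c) = Gl a :=
  Finset.prod_congr rfl fun j hj => by
    rw [Function.update_of_ne fun h => absurd (Finset.mem_filter.1 hj).2 (by rw [h]; omega)]

theorem Gl_eq_mul (a : Fin (numVars n) → ℕ) {i : Fin (numVars n)} (hi : 2 ≤ i.val) :
    Gl a = X (some i) ^ a i * Gl (Function.update a i 0) := by
  classical
  have hmem : i ∈ Finset.univ.filter (fun i : Fin (numVars n) => 2 ≤ i.val) := Finset.mem_filter.2 ⟨Finset.mem_univ _, hi⟩
  rw [Gl, ← Finset.mul_prod_erase _ _ hmem, Gl, ← Finset.mul_prod_erase _ _ hmem, Function.update_self, pow_zero, one_mul]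
  congr 1
  exact Finset.prod_congr rfl fun j hj => by rw [Function.update_of_ne (Finset.ne_of_mem_erase hj)]

theorem monomial0_mem {a : Fin (numVars n) → ℕ} (ha : InBox n a) {c i : ℕ} (hc : c < n)
    (hi : 2 * i < 2 ^ klog n 2) : evar n 1 ^ c * evar n 2 ^ i * Gl a ∈ W hn := by
  have hg : Good hn (Function.update (Function.update a (i0 hn) c) (i1 hn) (2 * i)) :=
    ⟨(ha.update (by rwa [bound_i0])).update (by rwa [bound_i1]), fun h => by
      rw [Function.update_self, Nat.odd_iff] at h; omega⟩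
  have := L_mem hn hg
  rwa [L, Function.update_self, if_neg (by simp [parity_simps]), Function.update_of_ne (i0_ne_i1 hn),
    Function.update_self, Gl_update_low _ (by simp), Gl_update_low _ (by simp),
    show 2 * i / 2 = i by omega] at this

theorem monomialx_mem {a : Fin (numVars n) → ℕ} (ha : InBox n a) {i : ℕ}
    (hi : 2 * i + 1 < 2 ^ klog n 2) : xvar n * evar n 2 ^ i * Gl a ∈ W hn := by
  have hg : Good hn (Function.update (Function.update a (i0 hn) (n - 1)) (i1 hn) (2 * i + 1)) :=
    ⟨(ha.update (by rw [bound_i0]; omega)).update (by rwa [bound_i1]), fun _ => by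
      rw [Function.update_of_ne (i0_ne_i1 hn), Function.update_self]; omega⟩
  have := L_mem hn hg
  rwa [L, Function.update_self, if_pos (by simp [parity_simps]), Gl_update_low _ (by simp), Gl_update_low _ (by simp),
    show (2 * i + 1) / 2 = i by omega] at this

theorem evar_one_mul_mem {z : FreeE n} (hz : z ∈ W hn) : evar n 1 * z ∈ W hn := by
  refine mul_mem_W_of_gen hn (fun a ha => ?_) hz
  rw [L]
  split_ifs with h
  · rw [show evar n 1 * (xvar n * evar n 2 ^ (a (i1 hn) / 2) * Gl a) =
      evar n 1 * xvar n * (evar n 2 ^ (a (i1 hn) / 2) * Gl a) by ring]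
    exact pres_mem hn (Ideal.mul_mem_right _ _ evar_one_mul_xvar_mem)
  · rw [show evar n 1 * (evar n 1 ^ a (i0 hn) * evar n 2 ^ (a (i1 hn) / 2) * Gl a) =
      evar n 1 ^ (a (i0 hn) + 1) * evar n 2 ^ (a (i1 hn) / 2) * Gl a by ring]
    by_cases hc : a (i0 hn) + 1 < n
    · exact monomial0_mem hn ha.1 hc (by have := ha.1 (i1 hn); rw [bound_i1] at this; omega)
    · exact pres_mem hn (Ideal.mul_mem_right _ _ (Ideal.mul_mem_right _ _ (evar_one_pow_mem (by omega))))

theorem evar_one_pow_mul_mem (m : ℕ) {z : FreeE n} (hz : z ∈ W hn) : evar n 1 ^ m * z ∈ W hn := by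
  induction m with
  | zero => rwa [pow_zero, one_mul]
  | succ m ih => rw [pow_succ', mul_assoc]; exact evar_one_mul_mem hn ih

theorem xvar_mul_mem {z : FreeE n} (hz : z ∈ W hn) : xvar n * z ∈ W hn := by
  refine mul_mem_W_of_gen hn (fun a ha => ?_) hz
  rw [L]
  split_ifs with h
  · rw [show xvar n * (xvar n * evar n 2 ^ (a (i1 hn) / 2) * Gl a) =
      xvar n ^ 2 * (evar n 2 ^ (a (i1 hn) / 2) * Gl a) by ring]
    exact pres_mem hn (Ideal.mul_mem_right _ _ xvar_sq_mem)
  · rcases Nat.eq_zero_or_pos (a (i0 hn)) with h0 | h0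
    · rw [h0, pow_zero, one_mul, ← mul_assoc]
      refine monomialx_mem hn ha.1 ?_
      have h' := ha.1 (i1 hn)
      rw [bound_i1] at h'
      rw [Nat.not_odd_iff] at h
      have h2 : 2 ^ klog n 2 = 2 * 2 ^ (klog n 2 - 1) := by
        rw [← pow_succ']; congr 1; have := one_le_klog_two hn; omega
      omega
    · rw [show a (i0 hn) = a (i0 hn) - 1 + 1 by omega]
      refine pres_mem hn ?_
      rw [show xvar n * (evar n 1 ^ (a (i0 hn) - 1 + 1) * evar n 2 ^ (a (i1 hn) / 2) * Gl a) =
        evar n 1 * xvar n * (evar n 1 ^ (a (i0 hn) - 1) * evar n 2 ^ (a (i1 hn) / 2) * Gl a) by ring]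
      exact Ideal.mul_mem_right _ _ evar_one_mul_xvar_mem

theorem evar_two_mul_mem {z : FreeE n} (hz : z ∈ W hn) : evar n 2 * z ∈ W hn := by
  have hK := one_le_klog_two hn
  have hM : 2 ^ klog n 2 = 2 * 2 ^ (klog n 2 - 1) := by rw [← pow_succ']; congr 1; omega
  have htop : ∀ a, InBox n a → evar n 2 ^ 2 ^ (klog n 2 - 1) * Gl a ∈ W hn := fun a ha => by
    have e : evar n 2 ^ 2 ^ (klog n 2 - 1) * Gl a = hrel n 2 * Gl a +
        evar n 1 ^ (2 ^ klog n 2 - n) * (xvar n * evar n 2 ^ 0 * Gl a) +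
        ∑ t ∈ Finset.range (klog n 2 - 1), evar n 1 ^ (2 ^ (klog n 2 - 1) + (2 ^ (klog n 2 - 1) - 2 ^ (t + 1))) *
          (evar n 1 ^ 0 * evar n 2 ^ 2 ^ t * Gl a) := by
      rw [hrel, if_pos rfl, sPoly_two_eq hn, Sp, Finset.mul_sum, add_mul, add_mul, Finset.sum_mul,
        Finset.sum_congr rfl fun t _ => show evar n 1 ^ (2 ^ (klog n 2 - 1) + (2 ^ (klog n 2 - 1) - 2 ^ (t + 1))) *
          (evar n 1 ^ 0 * evar n 2 ^ 2 ^ t * Gl a) = evar n 1 ^ 2 ^ (klog n 2 - 1) *
            (evar n 1 ^ (2 ^ (klog n 2 - 1) - 2 ^ (t + 1)) * evar n 2 ^ 2 ^ t) * Gl a by ring]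
      linear_combination -(add_self_eq (evar n 1 ^ (2 ^ klog n 2 - n) * xvar n * Gl a)) -
        (add_self_eq (∑ t ∈ Finset.range (klog n 2 - 1), evar n 1 ^ 2 ^ (klog n 2 - 1) *
            (evar n 1 ^ (2 ^ (klog n 2 - 1) - 2 ^ (t + 1)) * evar n 2 ^ 2 ^ t) * Gl a))
    rw [e]
    refine add_mem (add_mem ?_ ?_) (Submodule.sum_mem _ fun t ht => ?_)
    · exact pres_mem hn (Ideal.mul_mem_right _ _ (hrel_mem (i1 hn)))
    · exact evar_one_pow_mul_mem hn _ (monomialx_mem hn ha (i := 0) (by have := Nat.one_le_two_pow (n := klog n 2 - 1); omega))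
    · refine evar_one_pow_mul_mem hn _ (monomial0_mem hn ha (c := 0) (by omega) ?_)
      rw [← pow_succ']
      exact Nat.pow_lt_pow_right (by omega) (by have := Finset.mem_range.1 ht; omega)
  refine mul_mem_W_of_gen hn (fun a ha => ?_) hz
  have hb := ha.1 (i1 hn)
  rw [bound_i1] at hb
  rw [L]
  split_ifs with h
  · rw [show evar n 2 * (xvar n * evar n 2 ^ (a (i1 hn) / 2) * Gl a) =
      xvar n * evar n 2 ^ (a (i1 hn) / 2 + 1) * Gl a by ring]
    by_cases hc : 2 * (a (i1 hn) / 2 + 1) + 1 < 2 ^ klog n 2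
    · exact monomialx_mem hn ha.1 hc
    · rw [show a (i1 hn) / 2 + 1 = 2 ^ (klog n 2 - 1) by omega, mul_assoc]
      exact xvar_mul_mem hn (htop a ha.1)
  · rw [show evar n 2 * (evar n 1 ^ a (i0 hn) * evar n 2 ^ (a (i1 hn) / 2) * Gl a) =
      evar n 1 ^ a (i0 hn) * evar n 2 ^ (a (i1 hn) / 2 + 1) * Gl a by ring]
    by_cases hc : 2 * (a (i1 hn) / 2 + 1) < 2 ^ klog n 2
    · exact monomial0_mem hn ha.1 (by have := ha.1 (i0 hn); rwa [bound_i0] at this) hc
    · rw [show a (i1 hn) / 2 + 1 = 2 ^ (klog n 2 - 1) by omega, mul_assoc]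
      exact evar_one_pow_mul_mem hn _ (htop a ha.1)

theorem evar_two_pow_mul_mem (m : ℕ) {z : FreeE n} (hz : z ∈ W hn) : evar n 2 ^ m * z ∈ W hn := by
  induction m with
  | zero => rwa [pow_zero, one_mul]
  | succ m ih => rw [pow_succ', mul_assoc]; exact evar_two_mul_mem hn ih

theorem var_mul_mem {i : Fin (numVars n)} (hi : 2 ≤ i.val) {z : FreeE n} (hz : z ∈ W hn) :
    X (some i) * z ∈ W hn := by
  refine mul_mem_W_of_gen hn (fun a ha => ?_) hz
  by_cases hc : a i + 1 < bound n i
  · have hg : Good hn (Function.update a i (a i + 1)) :=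
      ⟨ha.1.update hc, by
        rw [Function.update_of_ne (fun h => absurd hi (by rw [← h]; simp)),
          Function.update_of_ne (fun h => absurd hi (by rw [← h]; simp))]
        exact ha.2⟩
    have e : L hn (Function.update a i (a i + 1)) = X (some i) * L hn a := by
      rw [L, L, Function.update_of_ne (fun h => absurd hi (by rw [← h]; simp)),
        Function.update_of_ne (fun h => absurd hi (by rw [← h]; simp)), Gl_eq_mul (Function.update _ _ _) hi,
        Gl_eq_mul a hi, Function.update_self, Function.update_idem]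
      split_ifs <;> ring
    rw [← e]
    exact L_mem hn hg
  · have hg : Good hn (Function.update a i 0) :=
      ⟨ha.1.update (bound_pos hn i), by
        rw [Function.update_of_ne (fun h => absurd hi (by rw [← h]; simp)),
          Function.update_of_ne (fun h => absurd hi (by rw [← h]; simp))]
        exact ha.2⟩
    have e : X (some i) * L hn a = X (some i) ^ bound n i * L hn (Function.update a i 0) := by
      rw [L, L, Function.update_of_ne (fun h => absurd hi (by rw [← h]; simp)),
        Function.update_of_ne (fun h => absurd hi (by rw [← h]; simp)), Gl_eq_mul a hi,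
        show bound n i = a i + 1 by have := ha.1 i; omega]
      split_ifs <;> ring
    have hr : hrel n (i.val + 1) = X (some i) ^ bound n i +
        evar n 1 ^ ((2 * (i.val + 1) - 3) * 2 ^ klog n (i.val + 1) - n) * xvar n +
        evar n 1 ^ ((2 * (i.val + 1) - 4) * 2 ^ klog n (i.val + 1)) * sPoly n (i.val + 1) := by
      rw [hrel, if_neg (by omega), if_pos ⟨by omega, i.2⟩, evar_eq, bound_other hi]
    have hx : X (some i) ^ bound n i = hrel n (i.val + 1) +
        evar n 1 ^ ((2 * (i.val + 1) - 3) * 2 ^ klog n (i.val + 1) - n) * xvar n +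
        evar n 1 ^ ((2 * (i.val + 1) - 4) * 2 ^ klog n (i.val + 1)) * sPoly n (i.val + 1) := by
      rw [hr]
      linear_combination -(add_self_eq (evar n 1 ^ ((2 * (i.val + 1) - 3) * 2 ^ klog n (i.val + 1) - n) * xvar n)) -
        add_self_eq (evar n 1 ^ ((2 * (i.val + 1) - 4) * 2 ^ klog n (i.val + 1)) * sPoly n (i.val + 1))
    rw [e, hx, add_mul, add_mul, mul_assoc, mul_assoc, sPoly, Finset.sum_mul, Finset.mul_sum]
    refine add_mem (add_mem (pres_mem hn (Ideal.mul_mem_right _ _ (hrel_mem i)))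
      (evar_one_pow_mul_mem hn _ (xvar_mul_mem hn (L_mem hn hg))))
      (Submodule.sum_mem _ fun t _ => evar_one_pow_mul_mem hn _ ?_)
    rw [mul_assoc]
    exact evar_one_pow_mul_mem hn _ (evar_two_pow_mul_mem hn _ (L_mem hn hg))

theorem W_eq_top : W hn = ⊤ := by
  have h1 : (1 : FreeE n) ∈ W hn := by
    have := monomial0_mem hn (a := fun _ => 0) (bound_pos hn) (c := 0) (i := 0) (by omega) (by positivity)
    simpa [Gl] using this
  have hclosed : ∀ (q z : FreeE n), z ∈ W hn → q * z ∈ W hn := by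
    intro q
    induction q using MvPolynomial.induction_on with
    | C c =>
      intro z hz
      rw [show (C c : FreeE n) = algebraMap (ZMod 2) (FreeE n) c from rfl, ← Algebra.smul_def]
      exact Submodule.smul_mem _ c hz
    | add p q hp hq => intro z hz; rw [add_mul]; exact add_mem (hp z hz) (hq z hz)
    | mul_X p o hp =>
      intro z hz
      rw [mul_assoc]
      refine hp _ ?_
      rcases o with _ | i
      · exact xvar_mul_mem hn hz
      · rcases lt_or_ge i.val 2 with hi | hi
        · rcases Nat.lt_succ_iff.1 hi |>.eq_or_lt with h | h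
          · rw [show i = i1 hn from Fin.ext h, ← evar_two hn]
            exact evar_two_mul_mem hn hz
          · rw [show i = i0 hn from Fin.ext (show i.val = 0 by omega), ← evar_one hn]
            exact evar_one_mul_mem hn hz
        · exact var_mul_mem hn hi hz
  exact eq_top_iff.2 fun z _ => by simpa using hclosed z 1 h1

include hn in
theorem ker_phi : RingHom.ker (phi n) = presIdeal n := by
  refine le_antisymm (fun q hq => ?_) (presIdeal_le_ker hn)
  have hW : q ∈ W hn := by rw [W_eq_top hn]; trivial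
  obtain ⟨u, hu, v, hv, rfl⟩ := Submodule.mem_sup.1 hW
  have hu0 : phi n u = 0 := by
    have h := RingHom.mem_ker.1 hq
    rwa [map_add, RingHom.mem_ker.1 (presIdeal_le_ker hn hv), add_zero] at h
  suffices u = 0 by rw [this, zero_add]; exact hv
  have hset : {z | ∃ a, Good hn a ∧ z = L hn a} = Set.range fun b : {b : Box n // Good hn b.val} => L hn b.1.val := by
    ext z
    constructor
    · rintro ⟨a, ha, rfl⟩
      exact ⟨⟨fun i => ⟨a i, ha.1 i⟩, ha⟩, rfl⟩
    · rintro ⟨b, rfl⟩
      exact ⟨_, b.2, rfl⟩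
  classical
  rw [hset] at hu
  obtain ⟨c, rfl⟩ := (Submodule.mem_span_range_iff_exists_fun (ZMod 2)).1 hu
  have hli := (linearIndependent_N hn).comp (fun b : {b : Box n // Good hn b.val} => b.1) Subtype.val_injective
  have hc := Fintype.linearIndependent_iff.1 hli c (by
    rw [← hu0, map_sum]
    exact Finset.sum_congr rfl fun b _ => by rw [map_smul, Function.comp_apply, phi_L hn b.2])
  exact Finset.sum_eq_zero fun b _ => by rw [hc b, zero_smul]

end Groth.Agent.H23QsChow
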