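import Groth.Prelude.Def_W4c4chowquasisplitPn
import Mathlib.RingTheory.MvPolynomial.Ideal
import Mathlib.LinearAlgebra.FiniteDimensional.Lemmas
import Mathlib.Data.ZMod.Basic
import Mathlib.LinearAlgebra.Dimension.OrzechProperty
import Mathlib.Tactic.LinearCombination

/-!
# A basis of the truncated algebra adapted to the involution
-/

set_option autoImplicit false
set_option linter.style.haveILetI false
set_option linter.unusedSectionVars false

noncomputable section

open MvPolynomial QsChow

namespace Groth.Agent.H23QsChow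

theorem two_eq_zero {A : Type*} [CommRing A] [Algebra (ZMod 2) A] : (2 : A) = 0 := by
  rw [← map_ofNat (algebraMap (ZMod 2) A) 2, show (OfNat.ofNat 2 : ZMod 2) = 0 from rfl, map_zero]

theorem add_self_eq {A : Type*} [CommRing A] [Algebra (ZMod 2) A] (a : A) : a + a = 0 := by
  rw [← two_mul, two_eq_zero, zero_mul]

theorem eq_of_add_eq_zero {A : Type*} [CommRing A] [Algebra (ZMod 2) A] {a b : A} (h : a + b = 0) : a = b := by
  linear_combination h - (add_self_eq b)

theorem add_pow_two_pow {A : Type*} [CommRing A] [Algebra (ZMod 2) A] (a b : A) (k : ℕ) :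
    (a + b) ^ 2 ^ k = a ^ 2 ^ k + b ^ 2 ^ k := by
  induction k with
  | zero => simp
  | succ k ih =>
    rw [pow_succ, pow_mul, pow_mul, pow_mul, ih, add_sq,
      show 2 * a ^ 2 ^ k * b ^ 2 ^ k = 0 by rw [two_eq_zero, zero_mul, zero_mul], add_zero]

/-- The additive polynomial. -/
def Sp {A : Type*} [CommRing A] (K : ℕ) (e u : A) : A := ∑ t ∈ Finset.range K, e ^ (2 ^ K - 2 ^ (t + 1)) * u ^ 2 ^ t

theorem map_Sp {A B : Type*} [CommRing A] [CommRing B] [Algebra (ZMod 2) A] [Algebra (ZMod 2) B]
    (f : A →ₐ[ZMod 2] B) (K : ℕ) (e u : A) : f (Sp K e u) = Sp K (f e) (f u) := by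
  simp [Sp, map_sum]

theorem Sp_succ {A : Type*} [CommRing A] (K : ℕ) (e u : A) : Sp (K + 1) e u = e ^ 2 ^ K * Sp K e u + u ^ 2 ^ K := by
  rw [Sp, Sp, Finset.sum_range_succ, Finset.mul_sum, Nat.sub_self, pow_zero, one_mul]
  congr 1
  refine Finset.sum_congr rfl fun t ht => ?_
  have : 2 ^ (t + 1) ≤ 2 ^ K := Nat.pow_le_pow_right (by omega) (Finset.mem_range.1 ht)
  rw [← mul_assoc, ← pow_add, pow_succ 2 K]
  congr 2
  omega

theorem Sp_telescope {A : Type*} [CommRing A] [Algebra (ZMod 2) A] (K : ℕ) (e y : A) :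
    Sp K e (y ^ 2 + e * y) + e ^ (2 ^ K - 1) * y = y ^ 2 ^ K := by
  induction K with
  | zero => simp [Sp]
  | succ K ih =>
    rw [Sp_succ, add_pow_two_pow, ← pow_mul, mul_pow, ← pow_succ']
    have hm : e ^ (2 ^ (K + 1) - 1) = e ^ 2 ^ K * e ^ (2 ^ K - 1) := by
      rw [← pow_add]; congr 1
      have := Nat.one_le_two_pow (n := K)
      rw [pow_succ]; omega
    linear_combination e ^ 2 ^ K * ih + hm * y + add_self_eq (e ^ 2 ^ K * y ^ 2 ^ K)

/-! ### Exponents -/

theorem le_mul_two_pow_klog (n j : ℕ) (hj : 2 ≤ j) : n ≤ (2 * j - 3) * 2 ^ klog n j := by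
  have h1 : (2 * n - 1) / (2 * j - 3) < 2 ^ (klog n j + 1) := Nat.lt_pow_succ_log_self (by norm_num) _
  rw [Nat.div_lt_iff_lt_mul (by omega), pow_succ] at h1
  nlinarith [show 2 * n - 1 + 1 ≥ 2 * n by omega]

theorem le_two_pow_klog_two (n : ℕ) : n ≤ 2 ^ klog n 2 := by
  simpa using le_mul_two_pow_klog n 2 le_rfl

theorem one_le_klog_two {n : ℕ} (hn : 2 ≤ n) : 1 ≤ klog n 2 := by
  by_contra h
  have := le_two_pow_klog_two n
  rw [show klog n 2 = 0 by omega] at this
  simp at this
  omega

section Basis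

variable {n : ℕ}

theorem two_le_numVars (hn : 2 ≤ n) : 2 ≤ numVars n := by unfold numVars; omega

/-- First index. -/
abbrev i0 (hn : 2 ≤ n) : Fin (numVars n) := ⟨0, by unfold numVars; omega⟩

/-- Second index. -/
abbrev i1 (hn : 2 ≤ n) : Fin (numVars n) := ⟨1, by unfold numVars; omega⟩

theorem i0_ne_i1 (hn : 2 ≤ n) : i0 hn ≠ i1 hn := fun h => absurd (congrArg Fin.val h) (by simp)

theorem bound_i0 (hn : 2 ≤ n) : bound n (i0 hn) = n := by simp [bound]

theorem bound_i1 (hn : 2 ≤ n) : bound n (i1 hn) = 2 ^ klog n 2 := by simp [bound]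

theorem bound_other {i : Fin (numVars n)} (hi : 2 ≤ i.val) : bound n i = 2 ^ klog n (i.val + 1) := by
  rw [bound, if_neg (by omega)]

theorem bound_pos (hn : 2 ≤ n) (i : Fin (numVars n)) : 0 < bound n i := by
  rw [bound]; split
  · omega
  · positivity

/-- Exponents within the bounds. -/
def InBox (n : ℕ) (a : Fin (numVars n) → ℕ) : Prop := ∀ i, a i < bound n i

theorem InBox.update {a : Fin (numVars n) → ℕ} (ha : InBox n a) {i : Fin (numVars n)} {c : ℕ} (hc : c < bound n i) :
    InBox n (Function.update a i c) := fun j => by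
  rcases eq_or_ne j i with rfl | h
  · rwa [Function.update_self]
  · rw [Function.update_of_ne h]; exact ha j

/-- The class of a variable. -/
def epsI (i : Fin (numVars n)) : P n := Ideal.Quotient.mk (truncIdeal n) (X i)

theorem eps_eq (i : Fin (numVars n)) : eps n (i.val + 1) = epsI i := by
  rw [eps, dif_pos ⟨by omega, i.2⟩]
  rfl

theorem eps_one (hn : 2 ≤ n) : eps n 1 = epsI (i0 hn) := eps_eq (i0 hn)

theorem eps_two (hn : 2 ≤ n) : eps n 2 = epsI (i1 hn) := eps_eq (i1 hn)

theorem epsI_pow_bound (i : Fin (numVars n)) : epsI i ^ bound n i = 0 := by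
  rw [epsI, ← map_pow, Ideal.Quotient.eq_zero_iff_mem]
  exact Ideal.subset_span ⟨i, rfl⟩

theorem eps_one_pow (hn : 2 ≤ n) {m : ℕ} (hm : n ≤ m) : eps n 1 ^ m = 0 := by
  refine pow_eq_zero_of_le hm ?_
  rw [eps_one hn]
  simpa [bound_i0 hn] using epsI_pow_bound (i0 hn)

theorem eps_two_pow (hn : 2 ≤ n) : eps n 2 ^ 2 ^ klog n 2 = 0 := by
  rw [eps_two hn]
  simpa [bound_i1 hn] using epsI_pow_bound (i1 hn)

variable (n) in
/-- The invariant quadratic element. -/
def uu : P n := eps n 2 ^ 2 + eps n 1 * eps n 2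

/-- Powers of the second coordinate in the new basis. -/
def w (n c : ℕ) : P n := uu n ^ (c / 2) * eps n 2 ^ (c % 2)

/-- The invariant higher coordinates. -/
def G (a : Fin (numVars n) → ℕ) : P n :=
  ∏ i ∈ Finset.univ.filter (fun i : Fin (numVars n) => 2 ≤ i.val), genImage n (some i) ^ a i

/-- The new basis. -/
def N (hn : 2 ≤ n) (a : Fin (numVars n) → ℕ) : P n := eps n 1 ^ a (i0 hn) * w n (a (i1 hn)) * G a

theorem genImage_other {i : Fin (numVars n)} (hi : 2 ≤ i.val) :
    genImage n (some i) = epsI i + eps n 1 ^ (2 * (i.val + 1) - 4) * eps n 2 := by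
  rw [genImage]
  simp only [show i.val ≠ 0 by omega, show i.val ≠ 1 by omega, if_false, eps_eq]

theorem G_update_low (a : Fin (numVars n) → ℕ) {i : Fin (numVars n)} (hi : i.val < 2) (c : ℕ) :
    G (Function.update a i c) = G a :=
  Finset.prod_congr rfl fun j hj => by
    rw [Function.update_of_ne fun h => absurd (Finset.mem_filter.1 hj).2 (by rw [h]; omega)]

theorem G_eq_mul (a : Fin (numVars n) → ℕ) {i : Fin (numVars n)} (hi : 2 ≤ i.val) :
    G a = genImage n (some i) ^ a i * G (Function.update a i 0) := by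
  classical
  have hmem : i ∈ Finset.univ.filter (fun i : Fin (numVars n) => 2 ≤ i.val) := Finset.mem_filter.2 ⟨Finset.mem_univ _, hi⟩
  rw [G, ← Finset.mul_prod_erase _ _ hmem, G, ← Finset.mul_prod_erase _ _ hmem, Function.update_self, pow_zero, one_mul]
  congr 1
  exact Finset.prod_congr rfl fun j hj => by rw [Function.update_of_ne (Finset.ne_of_mem_erase hj)]

variable (hn : 2 ≤ n)

theorem N_update0 (a : Fin (numVars n) → ℕ) (c : ℕ) :
    N hn (Function.update a (i0 hn) c) = eps n 1 ^ c * w n (a (i1 hn)) * G a := by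
  rw [N, Function.update_self, Function.update_of_ne (i0_ne_i1 hn).symm, G_update_low a (by simp)]

theorem N_update1 (a : Fin (numVars n) → ℕ) (c : ℕ) :
    N hn (Function.update a (i1 hn) c) = eps n 1 ^ a (i0 hn) * w n c * G a := by
  rw [N, Function.update_self, Function.update_of_ne (i0_ne_i1 hn), G_update_low a (by simp)]

theorem N_update_other (a : Fin (numVars n) → ℕ) {i : Fin (numVars n)} (hi : 2 ≤ i.val) (c : ℕ) :
    N hn (Function.update a i c) =
      genImage n (some i) ^ c * (eps n 1 ^ a (i0 hn) * w n (a (i1 hn)) * G (Function.update a i 0)) := by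
  rw [N, G_eq_mul _ hi, Function.update_self, Function.update_idem,
    Function.update_of_ne (fun h => absurd hi (by rw [← h]; simp)),
    Function.update_of_ne (fun h => absurd hi (by rw [← h]; simp))]
  ring

theorem genImage_pow_bound (j : Fin (numVars n)) (hj : 2 ≤ j.val) :
    genImage n (some j) ^ bound n j =
      eps n 1 ^ ((2 * (j.val + 1) - 4) * bound n j) * eps n 2 ^ bound n j := by
  rw [genImage_other hj, bound_other hj, add_pow_two_pow, mul_pow, ← pow_mul, ← bound_other hj,
    epsI_pow_bound, zero_add]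

/-- The span of the new basis. -/
def V : Submodule (ZMod 2) (P n) := Submodule.span (ZMod 2) {z | ∃ a, InBox n a ∧ z = N hn a}

theorem N_mem {a : Fin (numVars n) → ℕ} (ha : InBox n a) : N hn a ∈ V hn := Submodule.subset_span ⟨a, ha, rfl⟩

theorem mul_mem_V_of_gen {p : P n} (h : ∀ a, InBox n a → p * N hn a ∈ V hn) {z : P n} (hz : z ∈ V hn) :
    p * z ∈ V hn := by
  refine Submodule.span_induction (p := fun z _ => p * z ∈ V hn) ?_ ?_ ?_ ?_ hz
  · rintro _ ⟨a, ha, rfl⟩; exact h a ha
  · rw [mul_zero]; exact zero_mem _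
  · intro x y _ _ hx hy; rw [mul_add]; exact add_mem hx hy
  · intro c x _ hx; rw [mul_smul_comm]; exact Submodule.smul_mem _ c hx

theorem eps_one_mul_mem {z : P n} (hz : z ∈ V hn) : eps n 1 * z ∈ V hn := by
  refine mul_mem_V_of_gen hn (fun a ha => ?_) hz
  have h : eps n 1 * N hn a = eps n 1 ^ (a (i0 hn) + 1) * w n (a (i1 hn)) * G a := by rw [N, pow_succ]; ring
  by_cases hc : a (i0 hn) + 1 < n
  · rw [h, ← N_update0]
    exact N_mem hn (ha.update (by rwa [bound_i0]))
  · rw [h, eps_one_pow hn (by omega), zero_mul, zero_mul]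
    exact zero_mem _

theorem eps_one_pow_mul_mem (m : ℕ) {z : P n} (hz : z ∈ V hn) : eps n 1 ^ m * z ∈ V hn := by
  induction m with
  | zero => rwa [pow_zero, one_mul]
  | succ m ih => rw [pow_succ', mul_assoc]; exact eps_one_mul_mem hn ih

include hn in
theorem uu_pow_top : uu n ^ 2 ^ (klog n 2 - 1) =
    eps n 1 ^ 2 ^ (klog n 2 - 1) * Sp (klog n 2 - 1) (eps n 1) (uu n) + eps n 1 ^ (2 ^ klog n 2 - 1) * eps n 2 := by
  have h := Sp_telescope (klog n 2) (eps n 1) (eps n 2)
  rw [eps_two_pow hn] at h
  conv at h => arg 1; arg 1; rw [show klog n 2 = klog n 2 - 1 + 1 by have := one_le_klog_two hn; omega, Sp_succ]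
  rw [show eps n 2 ^ 2 + eps n 1 * eps n 2 = uu n from rfl] at h
  exact eq_of_add_eq_zero (by linear_combination h)

theorem eps_two_mul_mem {z : P n} (hz : z ∈ V hn) : eps n 2 * z ∈ V hn := by
  refine mul_mem_V_of_gen hn (fun a ha => ?_) hz
  have hc := ha (i1 hn)
  rw [bound_i1] at hc
  have hstep : ∀ c, c < 2 ^ klog n 2 → eps n 1 ^ a (i0 hn) * w n c * G a ∈ V hn := fun c h => by
    rw [← N_update1]; exact N_mem hn (ha.update (by rwa [bound_i1]))
  have hK := one_le_klog_two hn
  have hM : 2 ^ klog n 2 = 2 * 2 ^ (klog n 2 - 1) := by rw [← pow_succ']; congr 1; omega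
  rcases Nat.even_or_odd (a (i1 hn)) with ⟨i, hi⟩ | ⟨i, hi⟩
  · have h : eps n 2 * N hn a = eps n 1 ^ a (i0 hn) * w n (2 * i + 1) * G a := by
      rw [N, w, w, hi, show (i + i) / 2 = i by omega, show (i + i) % 2 = 0 by omega,
        show (2 * i + 1) / 2 = i by omega, show (2 * i + 1) % 2 = 1 by omega]
      ring
    rw [h]
    exact hstep _ (by omega)
  · have hy : eps n 2 * eps n 2 = uu n + eps n 1 * eps n 2 := by
      rw [uu]; linear_combination -(add_self_eq (eps n 1 * eps n 2))
    have h : eps n 2 * N hn a =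
        eps n 1 ^ a (i0 hn) * uu n ^ (i + 1) * G a + eps n 1 * N hn a := by
      rw [N, w, hi, show (2 * i + 1) / 2 = i by omega, show (2 * i + 1) % 2 = 1 by omega]
      linear_combination (eps n 1 ^ a (i0 hn) * uu n ^ i * G a) * hy
    rw [h]
    refine add_mem ?_ (eps_one_mul_mem hn (N_mem hn ha))
    by_cases htop : 2 * (i + 1) < 2 ^ klog n 2
    · have := hstep _ htop
      rwa [w, show 2 * (i + 1) / 2 = i + 1 by omega, show 2 * (i + 1) % 2 = 0 by omega, pow_zero, mul_one] at this
    · have hiM : i + 1 = 2 ^ (klog n 2 - 1) := by omega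
      rw [hiM, uu_pow_top hn, mul_add, add_mul, Sp, Finset.mul_sum, Finset.mul_sum, Finset.sum_mul]
      refine add_mem (Submodule.sum_mem _ fun t ht => ?_) ?_
      · have ht' : 2 * 2 ^ t < 2 ^ klog n 2 := by
          rw [← pow_succ']
          exact Nat.pow_lt_pow_right (by omega) (by have := Finset.mem_range.1 ht; omega)
        have := eps_one_pow_mul_mem hn (2 ^ (klog n 2 - 1) + (2 ^ (klog n 2 - 1) - 2 ^ (t + 1))) (hstep _ ht')
        rw [w, show 2 * 2 ^ t / 2 = 2 ^ t by omega, show 2 * 2 ^ t % 2 = 0 by omega, pow_zero, mul_one, pow_add] at this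
        convert this using 1
        ring
      · have := eps_one_pow_mul_mem hn (2 ^ klog n 2 - 1) (hstep 1 (by omega))
        rw [w, show 1 / 2 = 0 by rfl, show 1 % 2 = 1 by rfl, pow_zero, pow_one, one_mul] at this
        convert this using 1
        ring

theorem eps_two_pow_mul_mem (m : ℕ) {z : P n} (hz : z ∈ V hn) : eps n 2 ^ m * z ∈ V hn := by
  induction m with
  | zero => rwa [pow_zero, one_mul]
  | succ m ih => rw [pow_succ', mul_assoc]; exact eps_two_mul_mem hn ih

theorem genImage_mul_mem {i : Fin (numVars n)} (hi : 2 ≤ i.val) {z : P n} (hz : z ∈ V hn) :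
    genImage n (some i) * z ∈ V hn := by
  refine mul_mem_V_of_gen hn (fun a ha => ?_) hz
  have h : genImage n (some i) * N hn a = genImage n (some i) ^ (a i + 1) *
      (eps n 1 ^ a (i0 hn) * w n (a (i1 hn)) * G (Function.update a i 0)) := by
    rw [N, G_eq_mul a hi, pow_succ]; ring
  by_cases hc : a i + 1 < bound n i
  · rw [h, ← N_update_other hn a hi]
    exact N_mem hn (ha.update hc)
  · rw [h, show a i + 1 = bound n i by have := ha i; omega, genImage_pow_bound i hi, mul_assoc]
    refine eps_one_pow_mul_mem hn _ (eps_two_pow_mul_mem hn _ ?_)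
    have := N_mem hn (ha.update (i := i) (c := 0) (bound_pos hn i))
    rwa [N_update_other hn a hi, pow_zero, one_mul] at this

theorem V_eq_top : V hn = ⊤ := by
  have h1 : (1 : P n) ∈ V hn := by
    have := N_mem hn (a := fun _ => 0) (bound_pos hn)
    simpa [N, w, G] using this
  have hclosed : ∀ (q : FreeP n) (z : P n), z ∈ V hn → Ideal.Quotient.mk (truncIdeal n) q * z ∈ V hn := by
    intro q
    induction q using MvPolynomial.induction_on with
    | C c =>
      intro z hz
      rw [show Ideal.Quotient.mk (truncIdeal n) (C c) = algebraMap (ZMod 2) (P n) c from rfl, ← Algebra.smul_def]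
      exact Submodule.smul_mem _ c hz
    | add p q hp hq => intro z hz; rw [map_add, add_mul]; exact add_mem (hp z hz) (hq z hz)
    | mul_X p i hp =>
      intro z hz
      rw [map_mul, mul_assoc]
      refine hp _ ?_
      change epsI i * z ∈ V hn
      rcases lt_or_ge i.val 2 with hi | hi
      · rcases Nat.lt_succ_iff.1 hi |>.eq_or_lt with h | h
        · rw [show i = i1 hn from Fin.ext h, ← eps_two hn]
          exact eps_two_mul_mem hn hz
        · rw [show i = i0 hn from Fin.ext (show i.val = 0 by omega), ← eps_one hn]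
          exact eps_one_mul_mem hn hz
      · have he : epsI i = genImage n (some i) + eps n 1 ^ (2 * (i.val + 1) - 4) * eps n 2 := by
          rw [genImage_other hi]
          linear_combination -(add_self_eq (eps n 1 ^ (2 * (i.val + 1) - 4) * eps n 2))
        rw [he, add_mul, mul_assoc]
        exact add_mem (genImage_mul_mem hn hi hz) (eps_one_pow_mul_mem hn _ (eps_two_mul_mem hn hz))
  refine eq_top_iff.2 fun z _ => ?_
  obtain ⟨q, rfl⟩ := Ideal.Quotient.mk_surjective z
  simpa using hclosed q 1 h1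

/-- The index type. -/
abbrev Box (n : ℕ) : Type := (i : Fin (numVars n)) → Fin (bound n i)

/-- Exponents of an index. -/
def Box.val {n : ℕ} (b : Box n) : Fin (numVars n) → ℕ := fun i => b i

theorem Box.inBox {n : ℕ} (b : Box n) : InBox n b.val := fun i => (b i).2

theorem Box.val_injective {n : ℕ} : Function.Injective (Box.val (n := n)) :=
  fun _ _ h => funext fun i => Fin.ext (congrFun h i)

theorem span_N : Submodule.span (ZMod 2) (Set.range fun b : Box n => N hn b.val) = ⊤ := by
  rw [eq_top_iff, ← V_eq_top hn, V, Submodule.span_le]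
  rintro _ ⟨a, ha, rfl⟩
  exact Submodule.subset_span ⟨fun i => ⟨a i, ha i⟩, rfl⟩

theorem linearIndependent_monomials :
    LinearIndependent (ZMod 2) fun b : Box n =>
      Ideal.Quotient.mk (truncIdeal n) (monomial (Finsupp.equivFunOnFinite.symm b.val) 1) := by
  classical
  rw [Fintype.linearIndependent_iff]
  intro c hc b
  have hmk : Ideal.Quotient.mk (truncIdeal n) (∑ b : Box n, monomial (Finsupp.equivFunOnFinite.symm b.val) (c b)) = 0 := by
    rw [← hc, map_sum]
    refine Finset.sum_congr rfl fun b _ => ?_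
    rw [show monomial (Finsupp.equivFunOnFinite.symm b.val) (c b) =
      c b • monomial (Finsupp.equivFunOnFinite.symm b.val) (1 : ZMod 2) by rw [smul_monomial, smul_eq_mul, mul_one]]
    rfl
  rw [Ideal.Quotient.eq_zero_iff_mem, truncIdeal] at hmk
  have hset : (Set.range fun i : Fin (numVars n) => (X i : FreeP n) ^ bound n i) =
      (fun s => monomial s (1 : ZMod 2)) '' Set.range fun i : Fin (numVars n) => Finsupp.single i (bound n i) := by
    rw [← Set.range_comp]
    exact congrArg Set.range (funext fun i => by simp [X_pow_eq_monomial])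
  rw [hset, mem_ideal_span_monomial_image] at hmk
  by_contra hcb
  have hcoef : coeff (Finsupp.equivFunOnFinite.symm b.val)
      (∑ b' : Box n, monomial (Finsupp.equivFunOnFinite.symm b'.val) (c b')) = c b := by
    rw [coeff_sum, Finset.sum_eq_single b (fun b' _ hne => ?_) (fun h => absurd (Finset.mem_univ _) h), coeff_monomial,
      if_pos rfl]
    rw [coeff_monomial, if_neg fun h => hne (Box.val_injective (Finsupp.equivFunOnFinite.symm.injective h))]
  obtain ⟨_, ⟨i, rfl⟩, hle⟩ := hmk _ (mem_support_iff.2 (by rw [hcoef]; exact hcb))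
  have h2 : bound n i ≤ b.val i := by simpa using hle i
  exact absurd h2 (not_le.2 (b.inBox i))

theorem linearIndependent_N : LinearIndependent (ZMod 2) fun b : Box n => N hn b.val := by
  classical
  haveI : Module.Finite (ZMod 2) (P n) := ⟨⟨(Finset.univ : Finset (Box n)).image fun b => N hn b.val, by
    rw [Finset.coe_image, Finset.coe_univ, Set.image_univ]
    exact span_N hn⟩⟩
  refine linearIndependent_of_top_le_span_of_card_eq_finrank (span_N hn).ge ?_
  exact le_antisymm linearIndependent_monomials.fintype_card_le_finrank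
    (finrank_le_of_span_eq_top (span_N hn))

theorem exists_coord (z : P n) : ∃ c : Box n → ZMod 2, z = ∑ b, c b • N hn b.val := by
  obtain ⟨c, hc⟩ := (Submodule.mem_span_range_iff_exists_fun (ZMod 2)).1 ((span_N hn).ge (Submodule.mem_top (x := z)))
  exact ⟨c, hc.symm⟩

end Basis

end Groth.Agent.H23QsChow
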