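import Groth.Agent.H23QsChow.Ker
import Groth.Prelude.Def_W4c4chowquasisplitPn2
import Mathlib.Algebra.MvPolynomial.Rename

/-!
# The three presentations
-/

set_option autoImplicit false
set_option linter.unusedSectionVars false

noncomputable section

open MvPolynomial QsChow

namespace Groth.Agent.H23QsChow

variable {n : ℕ}

/-! ### Exponents -/

theorem twoExp_eq {d k : ℕ} (hd : Odd d) (h : n = d * 2 ^ k) : twoExp n = k := by
  have : Fact (Nat.Prime 2) := ⟨Nat.prime_two⟩
  have hd0 : d ≠ 0 := by rcases hd with ⟨c, rfl⟩; omega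
  rw [twoExp, h, padicValNat.mul hd0 (by positivity), padicValNat.prime_pow,
    padicValNat.eq_zero_of_not_dvd (fun hdvd => by rcases hd with ⟨c, rfl⟩; omega), zero_add]

theorem exists_odd_part (hn : 2 ≤ n) : ∃ d, Odd d ∧ n = d * 2 ^ twoExp n := by
  have : Fact (Nat.Prime 2) := ⟨Nat.prime_two⟩
  obtain ⟨d, hd⟩ : 2 ^ twoExp n ∣ n := pow_padicValNat_dvd
  refine ⟨d, ?_, by rw [mul_comm]; exact hd⟩
  by_contra he
  rw [Nat.not_odd_iff_even] at he
  obtain ⟨c, rfl⟩ := he
  refine pow_succ_padicValNat_not_dvd (p := 2) (show n ≠ 0 by omega) ⟨c, ?_⟩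
  rw [show padicValNat 2 n = twoExp n from rfl, pow_succ]
  linarith

theorem klog_eq_of_eq {j k : ℕ} (hj : 2 ≤ j) (h : n = (2 * j - 3) * 2 ^ k) (hn : 1 ≤ n) : klog n j = k := by
  refine Nat.log_eq_of_pow_le_of_lt_pow ?_ ?_
  · rw [Nat.le_div_iff_mul_le (by omega)]
    nlinarith [show 2 * n - 1 ≥ n by omega]
  · rw [Nat.div_lt_iff_lt_mul (by omega), pow_succ]
    nlinarith [show 2 * n - 1 < 2 * n by omega]

theorem kprime_eq_succ_of_eq {j k : ℕ} (hj : 3 ≤ j) (h : n = (2 * j - 3) * 2 ^ k) : kprime n j = k + 1 := by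
  rw [kprime, if_neg (by omega), if_neg (by omega), h, show 2 * ((2 * j - 3) * 2 ^ k) = 2 ^ (k + 1) * (2 * j - 3) by
    rw [pow_succ]; ring, Nat.mul_div_cancel _ (by omega), Nat.log_pow (by omega)]

theorem kprime_eq_klog_of_ne {j : ℕ} (hj : 3 ≤ j) (hjn : j ≤ numVars n) (hn : 2 ≤ n)
    (h : n ≠ (2 * j - 3) * 2 ^ klog n j) : kprime n j = klog n j := by
  unfold numVars at hjn
  have h1 : (2 * n - 1) / (2 * j - 3) < 2 ^ (klog n j + 1) := Nat.lt_pow_succ_log_self (by norm_num) _
  have h2 : 2 ^ klog n j ≤ (2 * n - 1) / (2 * j - 3) :=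
    Nat.pow_log_le_self 2 (Nat.div_pos (by omega) (by omega)).ne'
  rw [Nat.div_lt_iff_lt_mul (by omega), pow_succ] at h1
  rw [Nat.le_div_iff_mul_le (by omega)] at h2
  rw [kprime, if_neg (by omega), if_neg (by omega)]
  refine Nat.log_eq_of_pow_le_of_lt_pow ?_ ?_
  · rw [Nat.le_div_iff_mul_le (by omega)]; omega
  · rw [Nat.div_lt_iff_lt_mul (by omega), pow_succ]
    have h3 : 2 ^ klog n j * 2 * (2 * j - 3) = 2 * ((2 * j - 3) * 2 ^ klog n j) := by ring
    omega

theorem klog_two_of_two_pow {b : ℕ} (hn : 2 ≤ n) (h : n = 2 ^ b) : klog n 2 = b :=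
  klog_eq_of_eq le_rfl (by simpa using h) (by omega)

theorem kprime_two_of_not_two_pow (hn : 2 ≤ n) (h : ∀ b, n ≠ 2 ^ b) :
    kprime n 2 = klog n 2 - 1 ∧ n < 2 ^ klog n 2 := by
  have hK := one_le_klog_two hn
  have hlt : n < 2 ^ klog n 2 := lt_of_le_of_ne (le_two_pow_klog_two n) (h _)
  refine ⟨?_, hlt⟩
  rw [kprime, if_neg (by omega), if_pos rfl]
  refine Nat.log_eq_of_pow_le_of_lt_pow ?_ ?_
  · have h2 : 2 ^ klog n 2 ≤ (2 * n - 1) / (2 * 2 - 3) :=
      Nat.pow_log_le_self 2 (Nat.div_pos (by omega) (by omega)).ne'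
    have : 2 ^ klog n 2 = 2 * 2 ^ (klog n 2 - 1) := by rw [← pow_succ']; congr 1; omega
    simp at h2
    omega
  · rwa [show klog n 2 - 1 + 1 = klog n 2 by omega]

variable (hn : 2 ≤ n)
include hn

theorem kprime_two_spec (m : ℕ) (hm : m ≤ 2 ^ (klog n 2 - 1)) :
    sPoly n 2 + evar n 2 ^ 2 ^ (klog n 2 - 1) ∈ Ideal.span {evar n 1 ^ m} := by
  rw [sPoly_two_eq hn]
  obtain ⟨c, hc⟩ := Nat.exists_eq_add_of_le hm
  rw [add_assoc, add_self_eq, add_zero, hc, pow_add, mul_assoc]
  exact Ideal.mul_mem_right _ _ (Ideal.mem_span_singleton_self _)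

/-! ### The odd case -/

theorem sup_eq_oddIdeal (hodd : Odd n) :
    presIdeal n ⊔ Ideal.span {evar n 1 ^ 1} = oddIdeal n := by
  have h2p : ∀ b, n ≠ 2 ^ b := fun b hb => by
    rcases hodd with ⟨c, hc⟩
    rcases b with _ | b
    · simp at hb; omega
    · rw [pow_succ] at hb; omega
  obtain ⟨hk2, hlt⟩ := kprime_two_of_not_two_pow hn h2p
  have ha : twoExp n = 0 := twoExp_eq hodd (by simp)
  have hj : ∀ i : Fin (numVars n), 2 ≤ i.val →
      kprime n (i.val + 1) = klog n (i.val + 1) ∧ n < (2 * (i.val + 1) - 3) * 2 ^ klog n (i.val + 1) ∧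
        hrel n (i.val + 1) + evar n (i.val + 1) ^ 2 ^ klog n (i.val + 1) ∈ Ideal.span {evar n 1} := by
    intro i hi
    have hne : n ≠ (2 * (i.val + 1) - 3) * 2 ^ klog n (i.val + 1) := fun h => by
      have := twoExp_eq (n := n) ⟨i.val - 1, by omega⟩ h
      rw [← this, ha, pow_zero, mul_one] at h
      have := i.2; unfold numVars at this; omega
    have hlt := lt_of_le_of_ne (le_bound n (i.val + 1) (by omega)) hne
    refine ⟨kprime_eq_klog_of_ne (by omega) i.2 hn hne, hlt, ?_⟩
    rw [hrel, if_neg (by omega), if_pos ⟨by omega, i.2⟩]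
    have e : ∀ p q r : FreeE n, p + q + r + p = q + r := fun p q r => by linear_combination add_self_eq p
    rw [e]
    exact add_mem (Ideal.mul_mem_right _ _ (Ideal.pow_mem_of_mem _ (Ideal.mem_span_singleton_self _) _ (by omega)))
      (Ideal.mul_mem_right _ _ (Ideal.pow_mem_of_mem _ (Ideal.mem_span_singleton_self _) _
        (Nat.mul_pos (by omega) (by positivity))))
  have hh2 : hrel n 2 + evar n 2 ^ 2 ^ (klog n 2 - 1) ∈ Ideal.span {evar n 1} := by
    rw [hrel, if_pos rfl, add_assoc]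
    refine add_mem (Ideal.mul_mem_right _ _ (Ideal.pow_mem_of_mem _ (Ideal.mem_span_singleton_self _) _ (by omega))) ?_
    have := kprime_two_spec hn 1 Nat.one_le_two_pow
    rwa [pow_one] at this
  have hE : Ideal.span {evar n 1} ≤ oddIdeal n := Ideal.span_mono (by simp)
  rw [pow_one]
  refine le_antisymm (sup_le ?_ hE) ?_
  · rw [presIdeal, Ideal.span_le]
    rintro p (hp | ⟨i, rfl⟩)
    · rcases hp with rfl | rfl | rfl
      · exact hE (Ideal.pow_mem_of_mem _ (Ideal.mem_span_singleton_self _) _ (by omega))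
      · exact hE (Ideal.mul_mem_right _ _ (Ideal.mem_span_singleton_self _))
      · exact Ideal.subset_span (.inl (.inr rfl))
    · rcases Nat.lt_trichotomy i.val 1 with h | h | h
      · simp only [show i.val = 0 by omega, hrel]
        norm_num
      · have := hE hh2
        have hg : evar n 2 ^ 2 ^ (klog n 2 - 1) ∈ oddIdeal n :=
          Ideal.subset_span (.inr ⟨i, by simp only [h]; rw [show 1 + 1 = 2 from rfl, hk2]⟩)
        simpa [h] using (Ideal.add_mem_iff_left _ hg).1 this
      · obtain ⟨hk, -, hmem⟩ := hj i h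
        have hg : evar n (i.val + 1) ^ 2 ^ klog n (i.val + 1) ∈ oddIdeal n :=
          Ideal.subset_span (.inr ⟨i, by simp only [hk]⟩)
        exact (Ideal.add_mem_iff_left _ hg).1 (hE hmem)
  · rw [oddIdeal, Ideal.span_le]
    rintro p (hp | ⟨i, rfl⟩)
    · rcases hp with rfl | rfl
      · exact Submodule.mem_sup_right (Ideal.mem_span_singleton_self _)
      · exact Submodule.mem_sup_left xvar_sq_mem
    · refine (?_ : evar n (i.val + 1) ^ 2 ^ kprime n (i.val + 1) ∈ presIdeal n ⊔ Ideal.span {evar n 1})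
      rcases Nat.lt_trichotomy i.val 1 with h | h | h
      · rw [show i.val + 1 = 1 by omega, kprime, if_pos rfl, ha, pow_zero, pow_one]
        exact Submodule.mem_sup_right (Ideal.mem_span_singleton_self _)
      · rw [h, show 1 + 1 = 2 from rfl, hk2]
        refine (Ideal.add_mem_iff_right _ (Submodule.mem_sup_left ?_)).1 (Submodule.mem_sup_right hh2)
        simpa [h] using hrel_mem i
      · obtain ⟨hk, -, hmem⟩ := hj i h
        rw [hk]
        exact (Ideal.add_mem_iff_right _ (Submodule.mem_sup_left (hrel_mem i))).1 (Submodule.mem_sup_right hmem)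

/-! ### The map without the extra variable -/

omit hn in
/-- The inclusion. -/
def iota (n : ℕ) : FreeP n →ₐ[ZMod 2] FreeE n := rename some

omit hn in
theorem iota_evarE (j : ℕ) : iota n (evarE n j) = evar n j := by
  rw [evarE, evar]
  split
  · exact rename_X _ _
  · exact map_zero _

omit hn in
theorem psi_eq (q : FreeP n) : psi n q = phi n (iota n q) := by
  rw [psi, phi, iota, aeval_rename]
  rfl

omit hn in
/-- The retraction sending the extra variable to a given element. -/
def retr (n : ℕ) (c : FreeP n) : FreeE n →ₐ[ZMod 2] FreeP n :=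
  aeval fun o => match o with
    | none => c
    | some i => X i

omit hn in
theorem retr_iota (c : FreeP n) (q : FreeP n) : retr n c (iota n q) = q := by
  have h : (retr n c).comp (iota n) = AlgHom.id _ _ := MvPolynomial.algHom_ext fun i => by
    simp [retr, iota]
  exact AlgHom.congr_fun h q

omit hn in
theorem retr_evar (c : FreeP n) (j : ℕ) : retr n c (evar n j) = evarE n j := by
  rw [← iota_evarE, retr_iota]

omit hn in
theorem retr_xvar (c : FreeP n) : retr n c (xvar n) = c := by simp [retr, xvar]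

omit hn in
theorem iota_retr_sub_mem (c : FreeP n) {J : Ideal (FreeE n)} (hc : xvar n - iota n c ∈ J) (r : FreeE n) :
    r - iota n (retr n c r) ∈ J := by
  have h : ((Ideal.Quotient.mkₐ (ZMod 2) J).comp (iota n)).comp (retr n c) = Ideal.Quotient.mkₐ (ZMod 2) J :=
    MvPolynomial.algHom_ext fun o => by
      rcases o with _ | i
      · simp only [AlgHom.comp_apply, retr, aeval_X, Ideal.Quotient.mkₐ_eq_mk]
        exact (Ideal.Quotient.eq.2 hc).symm
      · simp only [AlgHom.comp_apply, retr, aeval_X, iota, rename_X]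
  have := AlgHom.congr_fun h r
  simp only [AlgHom.comp_apply, Ideal.Quotient.mkₐ_eq_mk] at this
  exact Ideal.Quotient.eq.1 this.symm

omit hn in
theorem map_retr_sPoly (c : FreeP n) (j : ℕ) :
    retr n c (sPoly n j) = ∑ t ∈ Finset.range (klog n j), evarE n 1 ^ (2 ^ klog n j - 2 ^ (t + 1)) * evarE n 2 ^ 2 ^ t := by
  simp [sPoly, retr_evar]

/-- The target ideal contains the image of the relations once it contains a few elements. -/
theorem retr_presIdeal_le (c : FreeP n) (I : Ideal (FreeP n))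
    (he : evarE n 1 ^ n ∈ I) (hec : evarE n 1 * c ∈ I) (hcc : c ^ 2 ∈ I)
    (h2 : retr n c (hrel n 2) ∈ I)
    (hj : ∀ i : Fin (numVars n), 2 ≤ i.val → retr n c (hrel n (i.val + 1)) ∈ I)
    {r : FreeE n} (hr : r ∈ presIdeal n) : retr n c r ∈ I := by
  suffices h : presIdeal n ≤ I.comap (retr n c) from h hr
  rw [presIdeal, Ideal.span_le]
  rintro p (hp | ⟨i, rfl⟩)
  · rcases hp with rfl | rfl | rfl
    · simpa [retr_evar] using he
    · simpa [retr_evar, retr_xvar] using hec
    · simpa [retr_xvar] using hcc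
  · rcases Nat.lt_trichotomy i.val 1 with h | h | h
    · simp [show i.val = 0 by omega, hrel]
    · simpa [h] using h2
    · exact hj i h

theorem two_pow_twoExp_le : 2 ^ twoExp n ≤ n := Nat.le_of_dvd (by omega) pow_padicValNat_dvd

end Groth.Agent.H23QsChow
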