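import Groth.Agent.H23QsChow.Pres

/-!
# The presentations without the extra variable
-/

set_option autoImplicit false
set_option linter.unusedSectionVars false

noncomputable section

open MvPolynomial QsChow

namespace Groth.Agent.H23QsChow

variable {n : ℕ} (hn : 2 ≤ n)
include hn

theorem hrel_other {j : ℕ} (hj : 3 ≤ j) (hjn : j ≤ numVars n) :
    hrel n j = evar n j ^ 2 ^ klog n j + evar n 1 ^ ((2 * j - 3) * 2 ^ klog n j - n) * xvar n +
      evar n 1 ^ ((2 * j - 4) * 2 ^ klog n j) * sPoly n j := by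
  rw [hrel, if_neg (by omega), if_pos ⟨hj, hjn⟩]

/-! ### Even, not a power of two -/

section Even

variable (ha : 1 ≤ twoExp n) (hne : n ≠ 2 ^ twoExp n)
include ha hne

theorem lIdx_spec : 3 ≤ lIdx n ∧ lIdx n ≤ numVars n ∧ n = (2 * lIdx n - 3) * 2 ^ twoExp n := by
  obtain ⟨d, hd, hnd⟩ := exists_odd_part hn
  obtain ⟨c, hc⟩ := hd
  have hd3 : 3 ≤ d := by
    rcases Nat.eq_zero_or_pos c with h | h
    · exact absurd (by rw [show d = 1 by omega, one_mul] at hnd; exact hnd) hne
    · omega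
  have hl : lIdx n = (d + 3) / 2 := by
    rw [lIdx]
    congr 2
    exact Nat.div_eq_of_eq_mul_left (by positivity) hnd
  have h2 : 2 ≤ 2 ^ twoExp n := Nat.le_self_pow (by omega) 2
  refine ⟨by omega, ?_, by rw [show 2 * lIdx n - 3 = d by omega]; exact hnd⟩
  unfold numVars
  have : 2 * d ≤ n := by nlinarith
  omega

theorem klog_lIdx : klog n (lIdx n) = twoExp n := by
  obtain ⟨h3, -, h⟩ := lIdx_spec hn ha hne
  exact klog_eq_of_eq (by omega) h (by omega)

theorem kprime_lIdx : kprime n (lIdx n) = twoExp n + 1 := by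
  obtain ⟨h3, -, h⟩ := lIdx_spec hn ha hne
  exact kprime_eq_succ_of_eq h3 h

theorem not_two_pow (b : ℕ) : n ≠ 2 ^ b := fun h =>
  hne (by rw [twoExp_eq (n := n) odd_one (show n = 1 * 2 ^ b by rwa [one_mul])]; exact h)

theorem other_spec {j : ℕ} (hj : 3 ≤ j) (hjn : j ≤ numVars n) (hjl : j ≠ lIdx n) :
    kprime n j = klog n j ∧ n < (2 * j - 3) * 2 ^ klog n j := by
  have h' : n ≠ (2 * j - 3) * 2 ^ klog n j := fun h => hjl <| by
    obtain ⟨h3, -, hl⟩ := lIdx_spec hn ha hne
    have hk := twoExp_eq (n := n) ⟨j - 2, by omega⟩ h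
    rw [← hk] at h
    have := Nat.eq_of_mul_eq_mul_right (by positivity) (h.symm.trans hl)
    omega
  exact ⟨kprime_eq_klog_of_ne hj hjn hn h', lt_of_le_of_ne (le_bound n j (by omega)) h'⟩

omit ha hne in
theorem two_pow_le_exponent {j : ℕ} (hj : 3 ≤ j) (h3 : 3 * 2 ^ twoExp n ≤ n) :
    2 ^ twoExp n ≤ (2 * j - 4) * 2 ^ klog n j := by
  have h1 := le_bound n j (by omega)
  have h2 : (2 * j - 3) * 2 ^ klog n j ≤ 3 * ((2 * j - 4) * 2 ^ klog n j) := by
    rw [← mul_assoc]; exact Nat.mul_le_mul_right _ (by omega)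
  omega

theorem three_mul_le : 3 * 2 ^ twoExp n ≤ n := by
  obtain ⟨h3, -, h⟩ := lIdx_spec hn ha hne
  calc 3 * 2 ^ twoExp n ≤ (2 * lIdx n - 3) * 2 ^ twoExp n := Nat.mul_le_mul_right _ (by omega)
    _ = n := h.symm

theorem twoExp_le : 2 ^ twoExp n ≤ 2 ^ (klog n 2 - 1) := by
  have h1 := three_mul_le hn ha hne
  have h2 := le_two_pow_klog_two n
  have hM : 2 ^ klog n 2 = 2 * 2 ^ (klog n 2 - 1) := by
    rw [← pow_succ']; congr 1; have := one_le_klog_two hn; omega
  omega

theorem mem_evenIdeal_iff (q : FreeP n) :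
    iota n q ∈ presIdeal n ⊔ Ideal.span {evar n 1 ^ 2 ^ twoExp n} ↔ q ∈ evenIdeal n := by
  obtain ⟨hl3, hln, hl⟩ := lIdx_spec hn ha hne
  set J := presIdeal n ⊔ Ideal.span {evar n 1 ^ 2 ^ twoExp n} with hJ
  have hEJ : ∀ {m : ℕ} (p : FreeE n), 2 ^ twoExp n ≤ m → evar n 1 ^ m * p ∈ J := fun p hm => by
    obtain ⟨c, rfl⟩ := Nat.exists_eq_add_of_le hm
    rw [pow_add, mul_assoc]
    exact Submodule.mem_sup_right (Ideal.mul_mem_right _ _ (Ideal.mem_span_singleton_self _))
  have hExJ : ∀ {m : ℕ}, 0 < m → evar n 1 ^ m * xvar n ∈ J := fun {m} hm => by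
    rw [show m = m - 1 + 1 by omega, pow_succ, mul_assoc]
    exact Submodule.mem_sup_left (Ideal.mul_mem_left _ _ evar_one_mul_xvar_mem)
  have hx : xvar n - iota n (evarE n (lIdx n) ^ 2 ^ twoExp n) ∈ J := by
    have h := Submodule.mem_sup_left (T := Ideal.span {evar n 1 ^ 2 ^ twoExp n})
      (hrel_mem (n := n) ⟨lIdx n - 1, by omega⟩)
    simp only [show lIdx n - 1 + 1 = lIdx n by omega] at h
    rw [hrel_other hn hl3 hln, klog_lIdx hn ha hne, ← hl, Nat.sub_self, pow_zero, one_mul] at h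
    have hS : evar n 1 ^ ((2 * lIdx n - 4) * 2 ^ twoExp n) * sPoly n (lIdx n) ∈ J :=
      hEJ _ (Nat.le_mul_of_pos_left _ (by omega))
    have := (Ideal.add_mem_iff_left _ hS).1 h
    rw [map_pow, iota_evarE]
    convert this using 1
    linear_combination -(add_self_eq (evar n (lIdx n) ^ 2 ^ twoExp n))
  obtain ⟨hk2, hlt⟩ := kprime_two_of_not_two_pow hn (not_two_pow hn ha hne)
  have h3 := three_mul_le hn ha hne
  constructor
  · intro hq
    obtain ⟨p, hp, r, hr, hpr⟩ := Submodule.mem_sup.1 hq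
    obtain ⟨t, rfl⟩ := Ideal.mem_span_singleton.1 hr
    set c := evarE n (lIdx n) ^ 2 ^ twoExp n with hc
    have hgen : ∀ j, 1 ≤ j → j ≤ numVars n → evarE n j ^ 2 ^ kprime n j ∈ evenIdeal n := fun j h1 h2 =>
      Ideal.subset_span (.inr ⟨⟨j - 1, by omega⟩, by simp only [show j - 1 + 1 = j by omega]⟩)
    have hE : ∀ {m : ℕ} (p : FreeP n), 2 ^ twoExp n ≤ m → evarE n 1 ^ m * p ∈ evenIdeal n := fun p hm => by
      obtain ⟨c, rfl⟩ := Nat.exists_eq_add_of_le hm
      rw [pow_add, mul_assoc]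
      refine Ideal.mul_mem_right _ _ ?_
      simpa [kprime] using hgen 1 le_rfl (by unfold numVars; omega)
    have hEc : ∀ {m : ℕ}, 0 < m → evarE n 1 ^ m * c ∈ evenIdeal n := fun {m} hm => by
      rw [show m = m - 1 + 1 by omega, pow_succ, mul_assoc]
      refine Ideal.mul_mem_left _ _ (Ideal.subset_span (.inl ?_))
      simp [hc, kprime_lIdx hn ha hne]
    rw [← retr_iota c q, ← hpr, map_add, map_mul, map_pow, retr_evar]
    refine add_mem (retr_presIdeal_le hn c _ ?_ ?_ ?_ ?_ ?_ hp) (hE _ le_rfl)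
    · simpa using hE (m := n) 1 (two_pow_twoExp_le hn)
    · simpa using hEc (m := 1) one_pos
    · rw [hc, ← pow_mul, ← pow_succ, ← kprime_lIdx hn ha hne]
      exact hgen _ (by omega) hln
    · rw [hrel, if_pos rfl, map_add, map_mul, map_pow, retr_evar, retr_xvar, sPoly_two_eq hn, map_add, map_mul,
        map_pow, map_pow, retr_evar, retr_evar, ← hk2]
      refine add_mem (hEc (by omega)) (add_mem (hE _ (twoExp_le hn ha hne |>.trans (by rw [hk2]))) ?_)
      exact hgen 2 (by omega) (two_le_numVars hn)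
    · intro i hi
      rw [hrel_other hn (by omega) (show i.val + 1 ≤ numVars n from i.2), map_add, map_add, map_mul, map_mul, map_pow, map_pow, map_pow, retr_evar,
        retr_evar, retr_xvar]
      refine add_mem ?_ (hE _ (two_pow_le_exponent hn (by omega) h3))
      by_cases hil : i.val + 1 = lIdx n
      · rw [hil, klog_lIdx hn ha hne, ← hl, Nat.sub_self, pow_zero, one_mul, ← hc, add_self_eq]
        exact zero_mem _
      · obtain ⟨hk, hlt'⟩ := other_spec hn ha hne (by omega) (show i.val + 1 ≤ numVars n from i.2) hil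
        exact add_mem (hk ▸ hgen _ (by omega) (show i.val + 1 ≤ numVars n from i.2)) (hEc (by omega))
  · intro hq
    suffices h : evenIdeal n ≤ J.comap (iota n) from h hq
    rw [evenIdeal, Ideal.span_le]
    rintro p (hp | ⟨i, rfl⟩)
    · rw [Set.mem_singleton_iff] at hp
      subst hp
      have h1 : evar n 1 * xvar n ∈ J := Submodule.mem_sup_left evar_one_mul_xvar_mem
      have h2 : evar n 1 * (xvar n - iota n (evarE n (lIdx n) ^ 2 ^ twoExp n)) ∈ J := Ideal.mul_mem_left _ _ hx
      refine (?_ : iota n _ ∈ J)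
      rw [map_mul, iota_evarE, kprime_lIdx hn ha hne, Nat.add_sub_cancel]
      convert sub_mem h1 h2 using 1
      ring
    · refine (?_ : iota n (evarE n (i.val + 1) ^ 2 ^ kprime n (i.val + 1)) ∈ J)
      rw [map_pow, iota_evarE]
      rcases Nat.lt_trichotomy i.val 1 with h | h | h
      · rw [show i.val + 1 = 1 by omega, kprime, if_pos rfl]
        simpa using hEJ 1 (le_refl (2 ^ twoExp n))
      · rw [h, show 1 + 1 = 2 from rfl, hk2]
        have h' := Submodule.mem_sup_left (T := Ideal.span {evar n 1 ^ 2 ^ twoExp n}) (hrel_mem i)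
        simp only [h, show 1 + 1 = 2 from rfl, hrel, if_true, sPoly_two_eq hn] at h'
        exact (Ideal.add_mem_iff_right _ (hEJ _ (twoExp_le hn ha hne))).1
          ((Ideal.add_mem_iff_right _ (hExJ (by omega))).1 h')
      · by_cases hil : i.val + 1 = lIdx n
        · rw [hil, kprime_lIdx hn ha hne, pow_succ, pow_mul]
          have h2 : (evar n (lIdx n) ^ 2 ^ twoExp n) ^ 2 = xvar n ^ 2 +
              (iota n (evarE n (lIdx n) ^ 2 ^ twoExp n) + xvar n) *
                -(xvar n - iota n (evarE n (lIdx n) ^ 2 ^ twoExp n)) := by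
            rw [map_pow, iota_evarE]; ring
          rw [h2]
          exact add_mem (Submodule.mem_sup_left xvar_sq_mem) (Ideal.mul_mem_left _ _ (neg_mem hx))
        · obtain ⟨hk, hlt'⟩ := other_spec hn ha hne (by omega) (show i.val + 1 ≤ numVars n from i.2) hil
          rw [hk]
          have h' := Submodule.mem_sup_left (T := Ideal.span {evar n 1 ^ 2 ^ twoExp n}) (hrel_mem i)
          rw [hrel_other hn (by omega) (show i.val + 1 ≤ numVars n from i.2)] at h'
          exact (Ideal.add_mem_iff_left _ (hExJ (by omega))).1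
            ((Ideal.add_mem_iff_left _ (hEJ _ (two_pow_le_exponent hn (by omega) h3))).1 h')

theorem psi_even {τ : P n →ₐ[ZMod 2] P n} (hτ : IsTau τ) :
    (∀ q : FreeP n, (∃ w : P n, τ w = w ∧ psi n q = eps n 1 ^ 2 ^ twoExp n * w) ↔ q ∈ evenIdeal n) ∧
    (∀ z : P n, τ z = z → ∃ q : FreeP n, ∃ w : P n,
      τ w = w ∧ z = psi n q + eps n 1 ^ 2 ^ twoExp n * w) := by
  obtain ⟨hl3, hln, hl⟩ := lIdx_spec hn ha hne
  refine ⟨fun q => ?_, fun z hz => ?_⟩
  · rw [psi_eq, exists_fixed_mul_iff hn hτ, ker_phi hn]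
    exact mem_evenIdeal_iff hn ha hne q
  · obtain ⟨r, rfl⟩ := mem_range_of_fixed hn hτ hz
    have hx : xvar n - iota n (evarE n (lIdx n) ^ 2 ^ twoExp n) ∈
        presIdeal n ⊔ Ideal.span {evar n 1 ^ 2 ^ twoExp n} := by
      have h := Submodule.mem_sup_left (T := Ideal.span {evar n 1 ^ 2 ^ twoExp n})
        (hrel_mem (n := n) ⟨lIdx n - 1, by omega⟩)
      simp only [show lIdx n - 1 + 1 = lIdx n by omega] at h
      rw [hrel_other hn hl3 hln, klog_lIdx hn ha hne, ← hl, Nat.sub_self, pow_zero, one_mul] at h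
      have hS : evar n 1 ^ ((2 * lIdx n - 4) * 2 ^ twoExp n) * sPoly n (lIdx n) ∈
          presIdeal n ⊔ Ideal.span {evar n 1 ^ 2 ^ twoExp n} := by
        obtain ⟨c, hc⟩ := Nat.exists_eq_add_of_le
          (Nat.le_mul_of_pos_left (2 ^ twoExp n) (show 0 < 2 * lIdx n - 4 by omega))
        rw [hc, pow_add, mul_assoc]
        exact Submodule.mem_sup_right (Ideal.mul_mem_right _ _ (Ideal.mem_span_singleton_self _))
      have := (Ideal.add_mem_iff_left _ hS).1 h
      rw [map_pow, iota_evarE]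
      convert this using 1
      linear_combination -(add_self_eq (evar n (lIdx n) ^ 2 ^ twoExp n))
    have hmem := iota_retr_sub_mem (evarE n (lIdx n) ^ 2 ^ twoExp n) hx r
    rw [← ker_phi hn, ← exists_fixed_mul_iff hn hτ] at hmem
    obtain ⟨w, hw, he⟩ := hmem
    refine ⟨retr n (evarE n (lIdx n) ^ 2 ^ twoExp n) r, w, hw, ?_⟩
    rw [← he, psi_eq, map_sub, add_sub_cancel]
    rfl

end Even

/-! ### A power of two -/

theorem psi_two_pow {τ : P n →ₐ[ZMod 2] P n} (hτ : IsTau τ) {b : ℕ} (hb : 1 ≤ b) (hnb : n = 2 ^ b) :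
    (psi n).range = AlgHom.equalizer τ (AlgHom.id (ZMod 2) (P n)) ∧ RingHom.ker (psi n) = powIdeal n := by
  have hK : klog n 2 = b := klog_two_of_two_pow hn hnb
  have ha : twoExp n = b := twoExp_eq odd_one (by rwa [one_mul])
  have hk2 : kprime n 2 = b := by rw [kprime, if_neg (by omega), if_pos rfl, hnb, Nat.log_pow (by omega)]
  have hj : ∀ j, 3 ≤ j → j ≤ numVars n →
      kprime n j = klog n j ∧ n < (2 * j - 3) * 2 ^ klog n j ∧ n ≤ (2 * j - 4) * 2 ^ klog n j := fun j hj hjn => by
    have hle := le_bound n j (by omega)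
    have hne : n ≠ (2 * j - 3) * 2 ^ klog n j := fun h => by
      have := twoExp_eq (n := n) ⟨j - 2, by omega⟩ h
      rw [← this, ha] at h
      have h' : 1 * 2 ^ b = (2 * j - 3) * 2 ^ b := (one_mul _).trans (hnb.symm.trans h)
      have := Nat.eq_of_mul_eq_mul_right (by positivity) h'
      omega
    refine ⟨kprime_eq_klog_of_ne hj hjn hn hne, lt_of_le_of_ne hle hne, ?_⟩
    rcases le_or_gt b (klog n j) with h | h
    · calc n = 1 * 2 ^ b := by rw [one_mul, hnb]
        _ ≤ (2 * j - 4) * 2 ^ klog n j := Nat.mul_le_mul (by omega) (Nat.pow_le_pow_right (by omega) h)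
    · have h2 : 2 ^ (b - klog n j) * 2 ^ klog n j = 2 ^ b := by rw [← pow_add]; congr 1; omega
      refine le_of_eq_of_le (hnb.trans h2.symm) (Nat.mul_le_mul_right _ ?_)
      have h3 : 2 ^ (b - klog n j) ≤ 2 * j - 3 := by
        refine Nat.le_of_mul_le_mul_right ?_ (show 0 < 2 ^ klog n j by positivity)
        rwa [h2, ← hnb]
      have h4 : 2 ∣ 2 ^ (b - klog n j) := dvd_pow_self 2 (by omega)
      omega
  set c := ∑ t ∈ Finset.range (kprime n 2), evarE n 1 ^ (2 ^ kprime n 2 - 2 ^ (t + 1)) * evarE n 2 ^ 2 ^ t with hc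
  have hc' : retr n 0 (sPoly n 2) = c := by rw [map_retr_sPoly, hK, ← hk2]
  have hcd : ∀ d, retr n d (sPoly n 2) = c := fun d => by rw [map_retr_sPoly, hK, ← hk2]
  have hiota : iota n c = sPoly n 2 := by
    rw [hc, sPoly, hk2, hK, map_sum]
    exact Finset.sum_congr rfl fun t _ => by rw [map_mul, map_pow, map_pow, iota_evarE, iota_evarE]
  have hx : xvar n - iota n c ∈ presIdeal n := by
    rw [hiota]
    have h := hrel_mem (n := n) (i1 hn)
    simp only [show (i1 hn).val + 1 = 2 from rfl, hrel, if_true, hK, ← hnb, Nat.sub_self, pow_zero, one_mul] at h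
    convert h using 1
    linear_combination -(add_self_eq (sPoly n 2))
  have hphi : ∀ r, phi n r = psi n (retr n c r) := fun r => by
    have := presIdeal_le_ker hn (iota_retr_sub_mem c hx r)
    rw [RingHom.mem_ker, map_sub, sub_eq_zero] at this
    rw [psi_eq, this]
  constructor
  · rw [← range_phi hn hτ]
    ext z
    constructor
    · rintro ⟨q, rfl⟩
      exact ⟨iota n q, (psi_eq q).symm⟩
    · rintro ⟨r, rfl⟩
      exact ⟨retr n c r, (hphi r).symm⟩
  · refine le_antisymm (fun q hq => ?_) ?_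
    · have hq' : iota n q ∈ presIdeal n := by
        rw [← ker_phi hn, RingHom.mem_ker, ← psi_eq]
        exact hq
      rw [← retr_iota c q]
      have hgen : ∀ j, 1 ≤ j → j ≤ numVars n → evarE n j ^ 2 ^ kprime n j ∈ powIdeal n := fun j h1 h2 =>
        Ideal.subset_span (.inr ⟨⟨j - 1, by omega⟩, by simp only [show j - 1 + 1 = j by omega]⟩)
      have hE : ∀ {m : ℕ} (p : FreeP n), n ≤ m → evarE n 1 ^ m * p ∈ powIdeal n := fun p hm => by
        obtain ⟨d, rfl⟩ := Nat.exists_eq_add_of_le hm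
        rw [pow_add, mul_assoc]
        refine Ideal.mul_mem_right _ _ ?_
        have := hgen 1 le_rfl (by unfold numVars; omega)
        rwa [kprime, if_pos rfl, ha, ← hnb] at this
      have hEc : ∀ {m : ℕ}, 0 < m → evarE n 1 ^ m * c ∈ powIdeal n := fun {m} hm => by
        rw [show m = m - 1 + 1 by omega, pow_succ, mul_assoc]
        exact Ideal.mul_mem_left _ _ (Ideal.subset_span (.inl rfl))
      refine retr_presIdeal_le hn c _ ?_ ?_ ?_ ?_ ?_ hq'
      · simpa using hE (m := n) 1 le_rfl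
      · simpa using hEc (m := 1) one_pos
      · obtain ⟨b', rfl⟩ : ∃ b', b = b' + 1 := ⟨b - 1, by omega⟩
        have e : c = evarE n 1 ^ 2 ^ b' * Sp b' (evarE n 1) (evarE n 2) + evarE n 2 ^ 2 ^ b' := by
          rw [hc, hk2]
          exact Sp_succ _ _ _
        rw [e, add_sq, two_eq_zero, zero_mul, zero_mul, add_zero, mul_pow, ← pow_mul, ← pow_succ, ← pow_mul,
          ← pow_succ, ← hnb]
        refine add_mem (hE _ le_rfl) ?_
        have := hgen 2 (by omega) (two_le_numVars hn)
        rwa [hk2, ← hnb] at this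
      · rw [hrel, if_pos rfl, map_add, map_mul, map_pow, retr_evar, retr_xvar, hcd, hK, ← hnb, Nat.sub_self,
          pow_zero, one_mul, add_self_eq]
        exact zero_mem _
      · intro i hi
        obtain ⟨hk, hlt, hle⟩ := hj (i.val + 1) (by omega) (show i.val + 1 ≤ numVars n from i.2)
        rw [hrel_other hn (by omega) (show i.val + 1 ≤ numVars n from i.2), map_add, map_add, map_mul, map_mul, map_pow, map_pow, map_pow, retr_evar,
          retr_evar, retr_xvar]
        exact add_mem (add_mem (hk ▸ hgen _ (by omega) (show i.val + 1 ≤ numVars n from i.2)) (hEc (by omega))) (hE _ hle)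
    · rw [powIdeal, Ideal.span_le]
      have hy : eps n 2 ^ n = 0 := by have := eps_two_pow hn; rwa [hK, ← hnb] at this
      rintro p (hp | ⟨i, rfl⟩)
      · rw [Set.mem_singleton_iff] at hp
        subst hp
        refine RingHom.mem_ker.2 ?_
        rw [← hc, map_mul, ← retr_xvar c, ← hphi, phi_xvar, psi_eq, iota_evarE, phi_evar_one hn, ← mul_assoc,
          ← pow_succ', eps_one_pow hn (by omega), zero_mul]
      · refine RingHom.mem_ker.2 ?_
        rw [psi_eq, map_pow, iota_evarE, evar_eq, map_pow, phi, aeval_X]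
        rcases Nat.lt_trichotomy i.val 1 with h | h | h
        · rw [show i = i0 hn from Fin.ext (show i.val = 0 by omega), ← eps_one_eq_genImage hn,
            show (i0 hn).val + 1 = 1 from rfl, kprime, if_pos rfl, ha, ← hnb, eps_one_pow hn le_rfl]
        · rw [show i = i1 hn from Fin.ext h, ← uu_eq_genImage hn, show (i1 hn).val + 1 = 2 from rfl, hk2, uu,
            add_pow_two_pow, mul_pow, ← hnb, eps_one_pow hn le_rfl, zero_mul, add_zero, ← pow_mul, mul_comm,
            pow_mul, hy, zero_pow two_ne_zero]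
        · obtain ⟨hk, -, hle⟩ := hj (i.val + 1) (by omega) (show i.val + 1 ≤ numVars n from i.2)
          rw [hk, ← bound_other (show 2 ≤ i.val from h), genImage_pow_bound i h, bound_other h,
            eps_one_pow hn hle, zero_mul]

end Groth.Agent.H23QsChow
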